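import Cfsg.Agent.Lib.Lie.RankThree.Basic
import Cfsg.Agent.Lib.Classical.InvAb.Final
import Cfsg.Agent.S0183
import Cfsg.Agent.Lib.Small.SL2.Classes
import Mathlib.GroupTheory.Nilpotent

/-!
# Simple groups in which centralizer indices are pairwise incomparable
-/

set_option autoImplicit false
set_option linter.unusedSectionVars false
set_option linter.style.haveILetI false

open Cfsg Cfsg.Agent.Classical

namespace Cfsg.Agent.Lie.RankThree

universe u

variable {G : Type u} [Group G] [Finite G]

/-- Centralizer indices of nontrivial elements are pairwise incomparable. -/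
def Incomparable (G : Type u) [Group G] : Prop :=
  ∀ x y : G, x ≠ 1 → y ≠ 1 → cidx x ∣ cidx y → cidx x = cidx y

theorem Incomparable.cent_eq' (hF : Incomparable G) {x y : G} (hx : x ≠ 1) (hy : y ≠ 1)
    (h : Subgroup.centralizer ({x} : Set G) ≤ Subgroup.centralizer {y}) :
    Subgroup.centralizer ({x} : Set G) = Subgroup.centralizer {y} :=
  cent_eq h (hF y x hy hx (cidx_dvd h)).symm

theorem Incomparable.cent_eq_of_coprime (hF : Incomparable G) {x y : G} (hx : x ≠ 1) (hy : y ≠ 1)
    (hc : Commute x y) (ho : (orderOf x).Coprime (orderOf y)) :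
    Subgroup.centralizer ({x} : Set G) = Subgroup.centralizer {y} :=
  (hF.cent_eq' (mul_ne_one_of_coprime hc ho hx) hx (cent_mul_le_left hc ho)).symm.trans
    (hF.cent_eq' (mul_ne_one_of_coprime hc ho hx) hy (cent_mul_le_right hc ho))

/-- A centralizer is abelian or a group of prime power order. -/
theorem Incomparable.comm_or_pgroup (hF : Incomparable G) {p : ℕ} (hp : p.Prime) {x : G}
    (hx : orderOf x = p) :
    (∀ a b : G, Commute a x → Commute b x → Commute a b) ∨
      IsPGroup p (Subgroup.centralizer ({x} : Set G)) := by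
  classical
  haveI := Fact.mk hp
  have hx1 : x ≠ 1 := fun e => by rw [e, orderOf_one] at hx; exact hp.ne_one hx.symm
  set C := Subgroup.centralizer ({x} : Set G) with hC
  by_cases hpg : IsPGroup p C
  · exact Or.inr hpg
  left
  obtain ⟨q, hq, hqd, hqp⟩ : ∃ q : ℕ, q.Prime ∧ q ∣ Nat.card C ∧ q ≠ p := by
    by_contra hno
    push Not at hno
    exact hpg (IsPGroup.of_card (n := (Nat.card C).primeFactorsList.length)
      (Nat.eq_prime_pow_of_unique_prime_dvd Nat.card_pos.ne' fun {d} hd hdd => hno d hd hdd))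
  haveI := Fact.mk hq
  obtain ⟨⟨y, hyC⟩, hyo⟩ := exists_prime_orderOf_dvd_card' q hqd
  rw [Subgroup.orderOf_mk] at hyo
  have hy1 : y ≠ 1 := fun e => by rw [e, orderOf_one] at hyo; exact hq.ne_one hyo.symm
  have hyC' : Subgroup.centralizer ({y} : Set G) = C :=
    (hF.cent_eq_of_coprime hx1 hy1 (mem_cent.1 hyC).symm
      (by rw [hx, hyo]; exact (Nat.coprime_primes hp hq).2 hqp.symm)).symm
  have hab : Subgroup.center C = ⊤ := by
    refine eq_top_of_primary _ fun r k v hr hv => Subgroup.mem_center_iff.2 fun w => Subtype.ext ?_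
    by_cases hv1 : (v : G) = 1
    · simp [show v = 1 from Subtype.ext hv1]
    rw [← Subgroup.orderOf_coe] at hv
    have hvC : Subgroup.centralizer ({(v : G)} : Set G) = C := by
      by_cases hrp : r = p
      · subst hrp
        have hm : (v : G) ∈ Subgroup.centralizer ({y} : Set G) := hyC'.symm ▸ v.2
        refine (Eq.symm ?_).trans hyC'
        refine hF.cent_eq_of_coprime hy1 hv1 (mem_cent.1 hm).symm ?_
        rw [hyo, hv]
        exact ((Nat.coprime_primes hq hp).2 hqp).pow_right k
      · refine (hF.cent_eq_of_coprime hx1 hv1 (mem_cent.1 v.2).symm ?_).symm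
        rw [hx, hv]
        exact ((Nat.coprime_primes hp hr).2 (Ne.symm hrp)).pow_right k
    exact mem_cent.1 (hvC.symm ▸ w.2 : (w : G) ∈ Subgroup.centralizer ({(v : G)} : Set G))
  intro a b ha hb
  have hac : (⟨a, mem_cent.2 ha⟩ : C) ∈ Subgroup.center C := by rw [hab]; exact Subgroup.mem_top _
  exact (congrArg Subtype.val (Subgroup.mem_center_iff.1 hac ⟨b, mem_cent.2 hb⟩) : b * a = a * b).symm

theorem Incomparable.isCN (hF : Incomparable G) : IsCNGroup G := by
  intro g hg
  obtain ⟨k, p, hp, hk⟩ := exists_primary_power hg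
  haveI := Fact.mk hp
  have hne : g ^ k ≠ 1 := fun e => by rw [e, orderOf_one] at hk; exact hp.ne_one hk.symm
  rw [hF.cent_eq' hg hne (cent_le_pow g k)]
  rcases hF.comm_or_pgroup hp hk with h | h
  · haveI : IsMulCommutative (Subgroup.centralizer ({g ^ k} : Set G)) :=
      ⟨⟨fun a b => Subtype.ext (h a b (mem_cent.1 a.2) (mem_cent.1 b.2)).eq⟩⟩
    letI : CommGroup (Subgroup.centralizer ({g ^ k} : Set G)) :=
      { (inferInstance : Group (Subgroup.centralizer ({g ^ k} : Set G))) with
        mul_comm := fun a b => IsMulCommutative.is_comm.comm a b }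
    infer_instance
  · exact h.isNilpotent

theorem Incomparable.sylow_two_comm (hF : Incomparable G) (S : Sylow 2 G) :
    ∀ a ∈ (S : Subgroup G), ∀ b ∈ (S : Subgroup G), Commute a b := by
  classical
  haveI : Fact (Nat.Prime 2) := ⟨Nat.prime_two⟩
  by_contra hnab
  push Not at hnab
  obtain ⟨s₁, hs₁, s₂, hs₂, hs⟩ := hnab
  haveI : Nontrivial (S : Subgroup G) :=
    ⟨⟨⟨s₁, hs₁⟩, 1, fun e => hs (by rw [show s₁ = 1 from congrArg Subtype.val e]; exact Commute.one_left _)⟩⟩
  have horder : ∀ x ∈ (S : Subgroup G), ∀ y : G, y ≠ 1 → y * y = 1 → orderOf y = 2 := fun _ _ y h1 h2 =>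
    orderOf_eq_prime (by rw [sq]; exact h2) h1
  -- a central involution
  haveI := S.isPGroup'.center_nontrivial
  obtain ⟨z₀, hz₀⟩ := exists_prime_orderOf_dvd_card' (G := Subgroup.center (S : Subgroup G)) 2 (by
    obtain ⟨n, hn⟩ := IsPGroup.iff_card.1 (S.isPGroup'.to_subgroup (Subgroup.center (S : Subgroup G)))
    have h1 : 1 < Nat.card (Subgroup.center (S : Subgroup G)) := Finite.one_lt_card
    rcases n with _ | n
    · rw [hn, pow_zero] at h1; omega
    · rw [hn]; exact dvd_pow_self 2 n.succ_ne_zero)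
  set z : G := ((z₀ : (S : Subgroup G)) : G) with hz
  have hzo : orderOf z = 2 := by rw [hz, Subgroup.orderOf_coe, Subgroup.orderOf_coe, hz₀]
  have hz1 : z ≠ 1 := fun e => by rw [e, orderOf_one] at hzo; omega
  have hSz : (S : Subgroup G) ≤ Subgroup.centralizer {z} := fun y hy =>
    mem_cent.2 (congrArg Subtype.val (Subgroup.mem_center_iff.1 z₀.2 ⟨y, hy⟩))
  -- its centralizer is `S`
  have hzC : Subgroup.centralizer ({z} : Set G) = S := by
    rcases hF.comm_or_pgroup Nat.prime_two hzo with h | h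
    · exact absurd (h s₁ s₂ (mem_cent.1 (hSz hs₁)) (mem_cent.1 (hSz hs₂))) hs
    · exact S.3 h hSz
  -- all 2-elements of `S` have 2-groups as centralizers
  have hcard : ∀ s ∈ (S : Subgroup G), orderOf s = 2 →
      IsPGroup 2 (Subgroup.centralizer ({s} : Set G)) := by
    intro s hs' hso
    have hs1 : s ≠ 1 := fun e => by rw [e, orderOf_one] at hso; omega
    rcases hF.comm_or_pgroup Nat.prime_two hso with h | h
    · exfalso
      have hzs : Commute z s := (mem_cent.1 (hSz hs')).symm
      have hle : Subgroup.centralizer ({s} : Set G) ≤ Subgroup.centralizer {z} := fun v hv =>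
        mem_cent.2 (h v z (mem_cent.1 hv) hzs)
      have he := hF.cent_eq' hs1 hz1 hle
      rw [hzC] at he
      exact hs (h s₁ s₂ (mem_cent.1 (he ▸ hs₁ : s₁ ∈ Subgroup.centralizer ({s} : Set G)))
        (mem_cent.1 (he ▸ hs₂ : s₂ ∈ Subgroup.centralizer ({s} : Set G))))
    · exact h
  -- elements of order four are central in the centralizer of their square
  have hfour : ∀ y ∈ (S : Subgroup G), orderOf y = 4 → ∀ v : G, Commute v (y * y) → Commute v y := by
    intro y hy hyo v hv
    have hy1 : y ≠ 1 := fun e => by rw [e, orderOf_one] at hyo; omega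
    have hyy : y * y ≠ 1 := fun e => by
      have := orderOf_dvd_of_pow_eq_one (show y ^ 2 = 1 by rw [sq]; exact e)
      rw [hyo] at this; omega
    have e := hF.cent_eq' hy1 hyy (by rw [← sq]; exact cent_le_pow y 2)
    exact mem_cent.1 (e.symm ▸ mem_cent.2 hv : v ∈ Subgroup.centralizer ({y} : Set G))
  -- involutions of `S` commute
  have hinv : ∀ s ∈ (S : Subgroup G), ∀ t ∈ (S : Subgroup G), s * s = 1 → t * t = 1 → Commute s t := by
    intro s hs' t ht hss htt
    by_cases h2 : (s * t) * (s * t) = 1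
    · show s * t = t * s
      calc s * t = (s * t)⁻¹ := (inv_eq_of_mul_eq_one_right h2).symm
        _ = t * s := by rw [mul_inv_rev, inv_eq_of_mul_eq_one_right hss, inv_eq_of_mul_eq_one_right htt]
    exfalso
    obtain ⟨n, hn⟩ := IsPGroup.iff_orderOf.1 S.isPGroup' ⟨s * t, mul_mem hs' ht⟩
    rw [Subgroup.orderOf_mk] at hn
    have hn2 : 2 ≤ n := by
      by_contra hlt
      apply h2
      rw [← sq]
      apply orderOf_dvd_iff_pow_eq_one.1
      rw [hn]
      interval_cases n <;> norm_num
    set y := (s * t) ^ 2 ^ (n - 2) with hy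
    have hyo : orderOf y = 4 := by
      rw [hy, orderOf_pow' _ (pow_ne_zero _ two_ne_zero), hn,
        Nat.gcd_eq_right (pow_dvd_pow 2 (Nat.sub_le n 2)), Nat.pow_div (Nat.sub_le n 2) two_pos,
        show n - (n - 2) = 2 by omega]
      norm_num
    have hsy : s * y * s⁻¹ = y⁻¹ := by
      rw [hy, ← conj_pow, ← inv_pow]
      congr 1
      rw [mul_inv_rev, inv_eq_of_mul_eq_one_right hss, inv_eq_of_mul_eq_one_right htt,
        ← mul_assoc, hss, one_mul]
    have h4 : y ^ 4 = 1 := hyo ▸ pow_orderOf_eq_one y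
    have hyy : (y * y)⁻¹ = y * y := inv_eq_of_mul_eq_one_right (by rw [← h4]; simp [pow_succ, mul_assoc])
    have hcomm : Commute s (y * y) := by
      show s * (y * y) = y * y * s
      calc s * (y * y) = (s * y * s⁻¹) * (s * y * s⁻¹) * s := by group
        _ = y * y * s := by rw [hsy, ← mul_inv_rev, hyy]
    have hc := hfour y (pow_mem (mul_mem hs' ht) _) hyo s hcomm
    have hyi : y⁻¹ = y := by rw [← hsy, hc.eq, mul_inv_cancel_right]
    have : y ^ 2 = 1 := by rw [sq]; nth_rw 1 [← hyi]; exact inv_mul_cancel y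
    have := orderOf_dvd_of_pow_eq_one this
    rw [hyo] at this; omega
  -- involutions are central in `S`
  have hcent : ∀ e ∈ (S : Subgroup G), e * e = 1 → ∀ y ∈ (S : Subgroup G), Commute y e := by
    intro e he hee y hy
    by_cases hy1 : y = 1
    · subst hy1; exact Commute.one_left _
    obtain ⟨n, hn⟩ := IsPGroup.iff_orderOf.1 S.isPGroup' ⟨y, hy⟩
    rw [Subgroup.orderOf_mk] at hn
    have hn0 : n ≠ 0 := fun h0 => hy1 (orderOf_eq_one_iff.1 (by rw [hn, h0, pow_zero]))
    set c := y ^ 2 ^ (n - 1) with hc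
    have hco : orderOf c = 2 := by
      rw [hc, orderOf_pow' _ (pow_ne_zero _ two_ne_zero), hn,
        Nat.gcd_eq_right (pow_dvd_pow 2 (Nat.sub_le n 1)), Nat.pow_div (Nat.sub_le n 1) two_pos,
        show n - (n - 1) = 1 by omega, pow_one]
    have hc1 : c ≠ 1 := fun e' => by rw [e', orderOf_one] at hco; omega
    have hcc : c * c = 1 := by rw [← sq, ← hco]; exact pow_orderOf_eq_one c
    have heq := hF.cent_eq' hy1 hc1 (cent_le_pow y _)
    exact (mem_cent.1 (heq.symm ▸ mem_cent.2 (hinv e he c (pow_mem hy _) hee hcc) :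
      e ∈ Subgroup.centralizer ({y} : Set G))).symm
  -- conclusion
  refine hs ?_
  by_cases h1 : s₁ = 1
  · subst h1; exact Commute.one_left _
  obtain ⟨n, hn⟩ := IsPGroup.iff_orderOf.1 S.isPGroup' ⟨s₁, hs₁⟩
  rw [Subgroup.orderOf_mk] at hn
  have hn0 : n ≠ 0 := fun h0 => h1 (orderOf_eq_one_iff.1 (by rw [hn, h0, pow_zero]))
  set c := s₁ ^ 2 ^ (n - 1) with hc
  have hco : orderOf c = 2 := by
    rw [hc, orderOf_pow' _ (pow_ne_zero _ two_ne_zero), hn,
      Nat.gcd_eq_right (pow_dvd_pow 2 (Nat.sub_le n 1)), Nat.pow_div (Nat.sub_le n 1) two_pos,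
      show n - (n - 1) = 1 by omega, pow_one]
  have hc1 : c ≠ 1 := fun e' => by rw [e', orderOf_one] at hco; omega
  have hcc : c * c = 1 := by rw [← sq, ← hco]; exact pow_orderOf_eq_one c
  have heq := hF.cent_eq' h1 hc1 (cent_le_pow s₁ _)
  exact (mem_cent.1 (heq.symm ▸ mem_cent.2 (hcent c (pow_mem hs₁ _) hcc s₂ hs₂) :
    s₂ ∈ Subgroup.centralizer ({s₁} : Set G))).symm

theorem Incomparable.iac (hF : Incomparable G) : InvAb.IAC G := by
  intro t x y htt ht1 hx hy
  haveI : Fact (Nat.Prime 2) := ⟨Nat.prime_two⟩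
  have hto : orderOf t = 2 := orderOf_eq_prime (by rw [sq]; exact htt) ht1
  rcases hF.comm_or_pgroup Nat.prime_two hto with h | h
  · exact h x y hx hy
  · obtain ⟨S, hS⟩ := h.exists_le_sylow
    exact hF.sylow_two_comm S x (hS (mem_cent.2 hx)) y (hS (mem_cent.2 hy))

variable [IsSimpleGroup G]

theorem Incomparable.psl (hF : Incomparable G) (hna : ¬ IsMulCommutative G) :
    ∃ (m : ℕ) (F : Type) (_ : Field F) (_ : Fintype F), 2 ≤ m ∧ Fintype.card F = 2 ^ m ∧
      Nonempty (G ≃* Matrix.ProjectiveSpecialLinearGroup (Fin 2) F) := by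
  classical
  haveI : Fact (Nat.Prime 2) := ⟨Nat.prime_two⟩
  have hns : ¬ Group.IsSolvable G := fun hs => by
    haveI := hs
    haveI : Nontrivial G := IsSimpleGroup.toNontrivial
    rcases Subgroup.Normal.eq_bot_or_eq_top (inferInstance : (commutator G).Normal) with h | h
    · exact hna ⟨⟨fun a b => commutatorElement_eq_one_iff_mul_comm.1
        (Subgroup.mem_bot.1 (h ▸ Subgroup.commutator_mem_commutator (Subgroup.mem_top a) (Subgroup.mem_top b)))⟩⟩
    · exact (Group.IsSolvable.commutator_lt_top_of_nontrivial G).ne h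
  have heven : Even (Nat.card G) := by
    rw [← Nat.not_odd_iff_even]
    exact fun ho => hns (S0183.result ho hF.isCN)
  obtain ⟨T⟩ : Nonempty (Sylow 2 G) := inferInstance
  have hTne : (T : Subgroup G) ≠ ⊥ := Sylow.ne_bot_of_dvd_card T (even_iff_two_dvd.1 heven)
  have hnn : ¬ (T : Subgroup G).Normal := fun hn => by
    rcases Subgroup.Normal.eq_bot_or_eq_top hn with h | h
    · exact hTne h
    · refine hna ⟨⟨fun a b => (hF.sylow_two_comm T a ?_ b ?_).eq⟩⟩ <;> rw [h] <;> trivial
  have hnc : ¬ IsCyclic ↥(T : Subgroup G) := by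
    intro hc
    have hmin : (Nat.card G).minFac = 2 := (Nat.minFac_eq_two_iff _).2 (even_iff_two_dvd.1 heven)
    have hle : Subgroup.normalizer ((T : Subgroup G) : Set G) ≤ Subgroup.centralizer ((T : Subgroup G) : Set G) :=
      IsCyclic.normalizer_le_centralizer hmin hc
    have hcompl := MonoidHom.ker_transferSylow_isComplement' T hle
    rcases Subgroup.Normal.eq_bot_or_eq_top (MonoidHom.normal_ker (MonoidHom.transferSylow T hle)) with e | e
    · rw [e, Subgroup.isComplement'_bot_left] at hcompl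
      exact hnn (by rw [hcompl]; infer_instance)
    · rw [e, Subgroup.isComplement'_top_left] at hcompl
      exact hTne hcompl
  obtain ⟨F, iF, iFF, A, iA, iAF, hchar, hAodd, ⟨e⟩⟩ := InvAb.exists_iso hF.iac T hnc hnn
  -- the abelian factor is trivial
  let f : G →* A := (MonoidHom.snd _ A).comp e.toMonoidHom
  have hker : f.ker = ⊤ := by
    rcases Subgroup.Normal.eq_bot_or_eq_top f.normal_ker with h | h
    · exfalso
      exact hna ⟨⟨fun a b => (MonoidHom.ker_eq_bot_iff f).1 h (by rw [map_mul, map_mul, mul_comm])⟩⟩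
    · exact h
  have hA : ∀ a : A, a = 1 := fun a => by
    obtain ⟨g, hg⟩ := e.surjective (1, a)
    have : f g = a := by simp [f, hg]
    rw [← this]
    exact MonoidHom.mem_ker.1 (hker ▸ Subgroup.mem_top g)
  let e' : G ≃* Matrix.SpecialLinearGroup (Fin 2) F :=
    e.trans
      { toFun := Prod.fst
        invFun := fun x => (x, 1)
        left_inv := fun p => Prod.ext rfl (hA p.2).symm
        right_inv := fun _ => rfl
        map_mul' := fun _ _ => rfl }
  have hz : Subgroup.center (Matrix.SpecialLinearGroup (Fin 2) F) = ⊥ := by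
    refine (Subgroup.eq_bot_iff_forall _).2 fun x hx => ?_
    have hc : e'.symm x ∈ Subgroup.center G := Subgroup.mem_center_iff.2 fun g => e'.injective (by
      rw [map_mul, map_mul, MulEquiv.apply_symm_apply, Subgroup.mem_center_iff.1 hx])
    rw [center_eq_bot hna, Subgroup.mem_bot] at hc
    exact e'.symm.injective (hc.trans (map_one _).symm)
  let π : Matrix.SpecialLinearGroup (Fin 2) F ≃* Matrix.ProjectiveSpecialLinearGroup (Fin 2) F :=
    ((QuotientGroup.quotientMulEquivOfEq hz).trans QuotientGroup.quotientBot).symm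
  obtain ⟨m, -, hm⟩ := FiniteField.card F 2
  refine ⟨m, F, iF, iFF, ?_, hm, ⟨e'.trans π⟩⟩
  by_contra hlt
  have hm1 : (m : ℕ) = 1 := by have := m.pos; omega
  rw [hm1, pow_one] at hm
  have h6 : Nat.card G = 6 := by
    rw [Nat.card_congr e'.toEquiv, Cfsg.Agent.Small.SL2C.card_SL2, hm]
    norm_num
  refine hnc ?_
  have hT2 : Nat.card (T : Subgroup G) = 2 := by
    rw [T.card_eq_multiplicity, h6, show (6 : ℕ) = 2 * 3 by norm_num,
      Nat.factorization_mul (by norm_num) (by norm_num), Finsupp.add_apply,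
      Nat.Prime.factorization_self Nat.prime_two,
      Nat.factorization_eq_zero_of_not_dvd (by norm_num), add_zero, pow_one]
  exact isCyclic_of_prime_card hT2

end Cfsg.Agent.Lie.RankThree
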