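import Cfsg.Agent.Lib.Char.Burnside
import Cfsg.Agent.Lib.Char.Convolution
import Cfsg.Agent.Lib.Lie.TwoQ.Basic

/-!
# Centralizer indices in simple groups: elementary lemmas
-/

set_option autoImplicit false
set_option linter.unusedSectionVars false
set_option linter.style.haveILetI false

open Cfsg Cfsg.Agent.Char
open scoped ComplexConjugate

namespace Cfsg.Agent.Lie.RankThree

universe u

variable {G : Type u} [Group G]

/-- The index of the centralizer. -/
noncomputable def cidx (x : G) : ℕ := (Subgroup.centralizer ({x} : Set G)).index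

/-- The order of the centralizer. -/
noncomputable def ccard (x : G) : ℕ := Nat.card (Subgroup.centralizer ({x} : Set G))

theorem mem_cent {x g : G} : g ∈ Subgroup.centralizer ({x} : Set G) ↔ Commute g x :=
  Subgroup.mem_centralizer_singleton_iff

theorem self_mem_cent (x : G) : x ∈ Subgroup.centralizer ({x} : Set G) := mem_cent.2 (Commute.refl x)

theorem ccard_mul_cidx (x : G) : ccard x * cidx x = Nat.card G := Subgroup.card_mul_index _

theorem cidx_conj (g x : G) : cidx (g * x * g⁻¹) = cidx x := by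
  have e : Subgroup.centralizer ({g * x * g⁻¹} : Set G) =
      (Subgroup.centralizer ({x} : Set G)).map (MulAut.conj g).toMonoidHom := by
    ext y
    rw [Subgroup.mem_map_equiv, mem_cent, mem_cent]
    constructor <;> intro h
    · have h1 : g⁻¹ * (y * (g * x * g⁻¹)) * g = g⁻¹ * (g * x * g⁻¹ * y) * g := by rw [h.eq]
      simp only [MulAut.conj_symm_apply]
      simpa [Commute, SemiconjBy, mul_assoc] using h1
    · simp only [MulAut.conj_symm_apply] at h
      have h1 : g * ((g⁻¹ * y * g) * x) * g⁻¹ = g * (x * (g⁻¹ * y * g)) * g⁻¹ := by rw [h.eq]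
      simpa [Commute, SemiconjBy, mul_assoc] using h1
  rw [cidx, cidx, e]
  exact Subgroup.index_map_equiv _ (MulAut.conj g)

variable [Finite G]

theorem ccard_eq_of_cidx_eq {x y : G} (h : cidx x = cidx y) : ccard x = ccard y := by
  have hx := ccard_mul_cidx x
  rw [← ccard_mul_cidx y, h] at hx
  exact Nat.eq_of_mul_eq_mul_right (Nat.pos_of_ne_zero Subgroup.index_ne_zero_of_finite) hx

theorem cidx_dvd {x y : G} (h : Subgroup.centralizer ({x} : Set G) ≤ Subgroup.centralizer {y}) :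
    cidx y ∣ cidx x := Subgroup.index_dvd_of_le h

theorem cent_eq {x y : G} (h : Subgroup.centralizer ({x} : Set G) ≤ Subgroup.centralizer {y})
    (he : cidx x = cidx y) :
    Subgroup.centralizer ({x} : Set G) = Subgroup.centralizer {y} :=
  Subgroup.eq_of_le_of_card_ge h (ccard_eq_of_cidx_eq he).ge

theorem cent_le_pow (x : G) (k : ℕ) :
    Subgroup.centralizer ({x} : Set G) ≤ Subgroup.centralizer {x ^ k} :=
  fun _ hg => mem_cent.2 ((mem_cent.1 hg).pow_right k)

/-- Commuting elements of coprime orders are powers of their product. -/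
theorem cent_mul_le_left {x y : G} (hc : Commute x y) (ho : (orderOf x).Coprime (orderOf y)) :
    Subgroup.centralizer ({x * y} : Set G) ≤ Subgroup.centralizer {x} := by
  intro g hg
  have h1 := mem_cent.1 (cent_le_pow (x * y) (orderOf y) hg)
  rw [hc.mul_pow, pow_orderOf_eq_one, mul_one] at h1
  obtain ⟨m, hm⟩ := exists_pow_eq_self_of_coprime (x := x) (n := orderOf y) ho.symm
  rw [mem_cent, ← hm]
  exact h1.pow_right m

theorem cent_mul_le_right {x y : G} (hc : Commute x y) (ho : (orderOf x).Coprime (orderOf y)) :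
    Subgroup.centralizer ({x * y} : Set G) ≤ Subgroup.centralizer {y} := by
  rw [hc.eq]
  exact cent_mul_le_left hc.symm ho.symm

theorem mul_ne_one_of_coprime {x y : G} (hc : Commute x y) (ho : (orderOf x).Coprime (orderOf y))
    (hx : x ≠ 1) : x * y ≠ 1 := by
  intro h
  rw [eq_inv_of_mul_eq_one_left h, orderOf_inv, Nat.coprime_self, orderOf_eq_one_iff] at ho
  rw [ho, mul_one] at h
  exact hx h

/-- Subgroups of coprime indices factorise the group. -/
theorem exists_mul_of_coprime (A B : Subgroup G) (h : A.index.Coprime B.index) (g : G) :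
    ∃ a ∈ A, ∃ b ∈ B, g = b * a := by
  have h1 : A.relIndex B * B.index = (A ⊓ B).index := by
    rw [← Subgroup.inf_relIndex_right, Subgroup.relIndex_mul_index inf_le_right]
  have h2 : A.index * B.index ∣ (A ⊓ B).index :=
    h.mul_dvd_of_dvd_of_dvd (Subgroup.index_dvd_of_le inf_le_left) (Subgroup.index_dvd_of_le inf_le_right)
  have h3 : A.index ≤ A.relIndex B := by
    have := Nat.le_of_dvd (Nat.pos_of_ne_zero Subgroup.index_ne_zero_of_finite) h2
    rw [← h1] at this
    exact Nat.le_of_mul_le_mul_right this (Nat.pos_of_ne_zero Subgroup.index_ne_zero_of_finite)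
  have hst : MulAction.stabilizer B ((1 : G) : G ⧸ A) = A.subgroupOf B := by
    ext b
    rw [MulAction.mem_stabilizer_iff, Subgroup.mem_subgroupOf]
    show ((((b : G) * 1 : G)) : G ⧸ A) = _ ↔ _
    rw [QuotientGroup.eq, mul_one, mul_one, inv_mem_iff]
  have horb : MulAction.orbit B ((1 : G) : G ⧸ A) = Set.univ := by
    refine Set.eq_of_subset_of_ncard_le (Set.subset_univ _) ?_ (Set.toFinite _)
    rw [← MulAction.index_stabilizer, hst, Set.ncard_univ]
    exact h3
  obtain ⟨b, hb⟩ := (horb ▸ Set.mem_univ (g : G ⧸ A) :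
    (g : G ⧸ A) ∈ MulAction.orbit B ((1 : G) : G ⧸ A))
  refine ⟨(b : G)⁻¹ * g, ?_, b, b.2, by group⟩
  have hb' : ((((b : G) * 1 : G)) : G ⧸ A) = (g : G ⧸ A) := hb
  rwa [mul_one, QuotientGroup.eq] at hb'

/-- Every prime misses the centralizer index of some nontrivial element. -/
theorem exists_central_elt (p : ℕ) [Fact p.Prime] (hp : p ∣ Nat.card G) (P : Sylow p G) :
    ∃ z ∈ (P : Subgroup G), z ≠ 1 ∧ (P : Subgroup G) ≤ Subgroup.centralizer {z} ∧ ¬ p ∣ cidx z := by
  haveI : Nontrivial (P : Subgroup G) := by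
    rw [Subgroup.nontrivial_iff_ne_bot]
    exact Sylow.ne_bot_of_dvd_card P hp
  haveI := P.isPGroup'.center_nontrivial
  obtain ⟨z, hz⟩ := exists_ne (1 : Subgroup.center (P : Subgroup G))
  have hle : (P : Subgroup G) ≤ Subgroup.centralizer {((z : (P : Subgroup G)) : G)} := fun y hy =>
    mem_cent.2 (congrArg Subtype.val (Subgroup.mem_center_iff.1 z.2 ⟨y, hy⟩))
  refine ⟨((z : (P : Subgroup G)) : G), SetLike.coe_mem _, fun e => hz (Subtype.ext (Subtype.ext e)),
    hle, fun hd => P.not_dvd_index (hd.trans (Subgroup.index_dvd_of_le hle))⟩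

/-- A nontrivial element has a power of prime order and one of prime power order. -/
theorem exists_primary_power {x : G} (hx : x ≠ 1) :
    ∃ (k p : ℕ), p.Prime ∧ orderOf (x ^ k) = p := by
  have hn : orderOf x ≠ 1 := fun h => hx (orderOf_eq_one_iff.1 h)
  obtain ⟨p, hp, hpd⟩ := Nat.exists_prime_and_dvd hn
  exact ⟨orderOf x / p, p, hp, orderOf_pow_orderOf_div (orderOf_pos x).ne' hpd⟩

/-- A subgroup containing all elements of prime power order is everything. -/
theorem eq_top_of_primary (S : Subgroup G)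
    (h : ∀ (p k : ℕ) (x : G), p.Prime → orderOf x = p ^ k → x ∈ S) : S = ⊤ := by
  rw [← Subgroup.index_eq_one]
  by_contra hne
  obtain ⟨p, hp, hpd⟩ := Nat.exists_prime_and_dvd hne
  haveI : Fact p.Prime := ⟨hp⟩
  obtain ⟨P⟩ : Nonempty (Sylow p G) := inferInstance
  have hle : (P : Subgroup G) ≤ S := by
    intro x hx
    obtain ⟨k, hk⟩ := IsPGroup.iff_orderOf.1 P.isPGroup' ⟨x, hx⟩
    rw [Subgroup.orderOf_mk] at hk
    exact h p k x hp hk
  exact P.not_dvd_index (hpd.trans (Subgroup.index_dvd_of_le hle))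

section Simple

variable [IsSimpleGroup G]

theorem center_eq_bot (hna : ¬ IsMulCommutative G) : Subgroup.center G = ⊥ := by
  rcases Subgroup.Normal.eq_bot_or_eq_top (inferInstance : (Subgroup.center G).Normal) with h | h
  · exact h
  · exact absurd ⟨⟨fun a b => (Subgroup.mem_center_iff.1 (h ▸ Subgroup.mem_top b : b ∈ Subgroup.center G) a)⟩⟩ hna

theorem cidx_ne_one (hna : ¬ IsMulCommutative G) {x : G} (hx : x ≠ 1) : cidx x ≠ 1 := by
  intro h
  rw [cidx, Subgroup.index_eq_one] at h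
  refine hx (Subgroup.mem_bot.1 (center_eq_bot hna ▸ Subgroup.mem_center_iff.2 fun g => ?_))
  exact mem_cent.1 (h ▸ Subgroup.mem_top g)

theorem cidx_not_primePow (hna : ¬ IsMulCommutative G) {x : G} (hx : x ≠ 1) {p k : ℕ} (hp : p.Prime) :
    cidx x ≠ p ^ k := by
  intro h
  haveI := Fact.mk (prime_card_of_prime_power_class hp hx h)
  haveI : IsCyclic G := isCyclic_of_prime_card (p := Nat.card G) rfl
  exact hna ⟨⟨fun a b => (IsCyclic.commGroup (α := G)).mul_comm a b⟩⟩

/-- Two commuting elements with coprime centralizer indices cannot occur. -/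
theorem not_commute_of_coprime (hna : ¬ IsMulCommutative G) {x y : G} (hx : x ≠ 1) (hy : y ≠ 1)
    (h : (cidx x).Coprime (cidx y)) : ¬ Commute x y := by
  intro hc
  have hle : Subgroup.normalClosure ({x} : Set G) ≤ Subgroup.centralizer {y} := by
    rw [Subgroup.normalClosure, Subgroup.closure_le]
    intro g hg
    obtain ⟨s, hs, hsg⟩ := Group.mem_conjugatesOfSet_iff.1 hg
    rw [Set.mem_singleton_iff] at hs
    subst hs
    obtain ⟨t, rfl⟩ := isConj_iff.1 hsg
    obtain ⟨a, ha, b, hb, rfl⟩ := exists_mul_of_coprime _ _ h t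
    have e : (b * a) * s * (b * a)⁻¹ = b * s * b⁻¹ := by
      rw [mul_inv_rev, ← mul_assoc, mul_assoc b a s, (mem_cent.1 ha).eq, ← mul_assoc, mul_inv_cancel_right]
    rw [e]
    exact mul_mem (mul_mem hb (mem_cent.2 hc)) (inv_mem hb)
  rcases Subgroup.Normal.eq_bot_or_eq_top (Subgroup.normalClosure_normal (s := ({x} : Set G))) with h1 | h1
  · exact hx (Subgroup.mem_bot.1 (h1 ▸ Subgroup.subset_normalClosure rfl))
  · refine hy (Subgroup.mem_bot.1 (center_eq_bot hna ▸ Subgroup.mem_center_iff.2 fun g => ?_))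
    exact mem_cent.1 (hle (h1 ▸ Subgroup.mem_top g))

variable [Fintype G]

/-- When `G = C(x) C(y)`, irreducible characters are multiplicative on `(x, y)`. -/
theorem char_mul_of_coprime {x y : G} (h : (cidx x).Coprime (cidx y)) {χ : G → ℂ}
    (hχ : IsIrrCharacter G χ) : χ 1 * χ (x * y) = χ x * χ y := by
  have key : ∀ t : G, χ (x * (t * y * t⁻¹)) = χ (x * y) := by
    intro t
    obtain ⟨a, ha, b, hb, rfl⟩ := exists_mul_of_coprime (Subgroup.centralizer ({y} : Set G))
      (Subgroup.centralizer ({x} : Set G)) h.symm t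
    have e : x * ((b * a) * y * (b * a)⁻¹) = b * (x * y) * b⁻¹ := by
      rw [mul_inv_rev, ← mul_assoc (b * a * y), mul_assoc b a y, (mem_cent.1 ha).eq, ← mul_assoc b y a,
        mul_inv_cancel_right, ← mul_assoc, ← mul_assoc, ← (mem_cent.1 hb).eq, mul_assoc b x y]
    rw [e]
    exact isClassFunction_character (irr_isCharacter hχ) _ _
  have h1 := sum_conj_mul hχ x y
  rw [Finset.sum_congr rfl (fun t _ => key t), Finset.sum_const, Finset.card_univ, nsmul_eq_mul,
    ← Nat.card_eq_fintype_card] at h1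
  have hn : (Nat.card G : ℂ) ≠ 0 := Nat.cast_ne_zero.2 Nat.card_pos.ne'
  exact mul_left_cancel₀ hn (by linear_combination h1)

theorem norm_lt_of_ne_one (hna : ¬ IsMulCommutative G) {χ : G → ℂ} (hχ : IsIrrCharacter G χ)
    (h1 : χ ≠ fun _ => 1) {x : G} (hx : x ≠ 1) : ‖χ x‖ < ‖χ 1‖ := by
  have hle := char_norm_le (irr_isCharacter hχ) x
  obtain ⟨n, ρ, hρ, rfl⟩ := hχ
  rw [Representation.char_one] at hle ⊢
  rw [Complex.norm_natCast]
  rw [Complex.natCast_re] at hle
  refine lt_of_le_of_ne hle fun he => ?_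
  obtain ⟨ω, hω⟩ := (eq_scalar_iff ρ x).1 he
  rcases Subgroup.Normal.eq_bot_or_eq_top (inferInstance : ρ.ker.Normal) with hb | ht
  · refine hx (Subgroup.mem_bot.1 (center_eq_bot hna ▸ Subgroup.mem_center_iff.2 fun g => ?_))
    refine (MonoidHom.ker_eq_bot_iff ρ).1 hb ?_
    rw [map_mul, map_mul, hω, ← Module.End.one_eq_id, mul_smul_comm, smul_mul_assoc, one_mul, mul_one]
  · have htriv : ∀ g, ρ g = LinearMap.id := fun g =>
      MonoidHom.mem_ker.1 (ht ▸ Subgroup.mem_top g : g ∈ ρ.ker)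
    refine h1 (funext fun g => ?_)
    rw [(eq_id_iff ρ g).2 (htriv g), finrank_eq_one_of_trivial hρ htriv, Nat.cast_one]

theorem sum_norm_sq (x : G) :
    ∑ χ : IrrCharacter G, ‖(χ : G → ℂ) x‖ ^ 2 = (ccard x : ℝ) := by
  classical
  have h := second_orth x x
  rw [if_pos (IsConj.refl x)] at h
  have h2 : ((Nat.card G : ℂ) / Nat.card {y : G // IsConj x y}) = (ccard x : ℂ) := by
    rw [div_eq_iff (Nat.cast_ne_zero.2 (card_conjClass_ne_zero x)), ← Nat.cast_mul, ← ccard_mul_cidx x,
      cidx, card_conjClass_eq_index]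
  rw [h2] at h
  have h3 : ∀ χ : IrrCharacter G, (χ : G → ℂ) x * conj ((χ : G → ℂ) x) = ((‖(χ : G → ℂ) x‖ ^ 2 : ℝ) : ℂ) :=
    fun χ => by rw [Complex.mul_conj', Complex.ofReal_pow]
  rw [Finset.sum_congr rfl fun χ _ => h3 χ, ← Complex.ofReal_sum] at h
  exact_mod_cast h

/-- When `G = C(x) C(y)`, the centralizer of `x y` is smaller than that of `y`. -/
theorem ccard_mul_lt (hna : ¬ IsMulCommutative G) {x y : G} (hx : x ≠ 1) (hy : y ≠ 1)
    (h : (cidx x).Coprime (cidx y)) : ccard (x * y) < ccard y := by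
  classical
  set e1 : IrrCharacter G := ⟨fun _ => 1, isIrrCharacter_one⟩ with he1
  have hle : ∀ χ : IrrCharacter G, ‖(χ : G → ℂ) (x * y)‖ * ‖(χ : G → ℂ) 1‖ =
      ‖(χ : G → ℂ) x‖ * ‖(χ : G → ℂ) y‖ := fun χ => by
    rw [← norm_mul, ← norm_mul, mul_comm, char_mul_of_coprime h χ.2]
  have hpos : ∀ χ : IrrCharacter G, 0 < ‖(χ : G → ℂ) 1‖ := fun χ => norm_pos_iff.2 (irr_one_ne_zero χ.2)
  have hmono : ∀ χ : IrrCharacter G, ‖(χ : G → ℂ) (x * y)‖ ^ 2 ≤ ‖(χ : G → ℂ) y‖ ^ 2 := by
    intro χ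
    refine pow_le_pow_left₀ (norm_nonneg _) (le_of_mul_le_mul_right ?_ (hpos χ)) 2
    rw [hle, mul_comm]
    refine mul_le_mul_of_nonneg_left ?_ (norm_nonneg _)
    by_cases h1 : (χ : G → ℂ) = fun _ => 1
    · simp [h1]
    · exact (norm_lt_of_ne_one hna χ.2 h1 hx).le
  have hsy := sum_norm_sq y
  have hone : (1 : ℝ) < ccard y := by
    have : 1 < ccard y := by
      rw [ccard, Subgroup.one_lt_card_iff_ne_bot]
      intro hb
      exact hy (Subgroup.mem_bot.1 (hb ▸ self_mem_cent y))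
    exact_mod_cast this
  obtain ⟨χ, hχ1, hχy⟩ : ∃ χ : IrrCharacter G, χ ≠ e1 ∧ (χ : G → ℂ) y ≠ 0 := by
    by_contra hno
    push Not at hno
    rw [← hsy, Finset.sum_eq_single e1 (fun χ _ hne => by rw [hno χ hne]; simp) (by simp)] at hone
    simp [he1] at hone
  have hlt : ∑ χ : IrrCharacter G, ‖(χ : G → ℂ) (x * y)‖ ^ 2 < ∑ χ : IrrCharacter G, ‖(χ : G → ℂ) y‖ ^ 2 := by
    refine Finset.sum_lt_sum (fun χ _ => hmono χ) ⟨χ, Finset.mem_univ _, ?_⟩
    refine pow_lt_pow_left₀ (lt_of_mul_lt_mul_right ?_ (hpos χ).le) (norm_nonneg _) two_ne_zero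
    rw [hle, mul_comm]
    exact mul_lt_mul_of_pos_left (norm_lt_of_ne_one hna χ.2 (fun e => hχ1 (Subtype.ext e)) hx)
      (norm_pos_iff.2 hχy)
  rw [sum_norm_sq, sum_norm_sq] at hlt
  exact_mod_cast hlt

end Simple

end Cfsg.Agent.Lie.RankThree
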