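import Cfsg.Agent.Lib.Solv.FrobeniusGK
import Cfsg.Agent.Lib.Solv.FrobeniusFPF
import Cfsg.Agent.Lib.Solv.UniqueSub

/-!
# Fixed-point-free groups of automorphisms have a nontrivial centre
-/

set_option autoImplicit false
set_option linter.unusedSectionVars false
set_option linter.style.haveILetI false

open Cfsg Cfsg.Agent.Solv
open scoped commutatorElement Pointwise

namespace Cfsg.Agent.Lie.RankThree

universe u

variable {G : Type u} [Group G] [Finite G] {A V : Subgroup G} [IsMulCommutative V]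

/-- An element of prime order normalising a subgroup of another prime order centralises it. -/
theorem commute_of_prime_normalizes (hV : V ≠ ⊥) (hAV : A ≤ Subgroup.normalizer (V : Set G))
    (hfpf : ∀ a ∈ A, a ≠ 1 → V ⊓ Subgroup.centralizer {a} = ⊥)
    {p r : ℕ} [Fact p.Prime] [Fact r.Prime] (hpr : p ≠ r) {x y : G} (hx : x ∈ A) (hy : y ∈ A)
    (hxo : orderOf x = r) (hyo : orderOf y = p) (hn : x * y * x⁻¹ ∈ Subgroup.zpowers y) :
    Commute x y := by
  classical
  by_contra hcomm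
  have hxN : x ∈ Subgroup.normalizer (Subgroup.zpowers y : Set G) := by
    have hle : (Subgroup.zpowers y).map (MulAut.conj x).toMonoidHom ≤ Subgroup.zpowers y := by
      rw [MonoidHom.map_zpowers, Subgroup.zpowers_le]
      simpa using hn
    have he := Subgroup.eq_of_le_of_card_ge hle
      (Subgroup.card_map_of_injective (MulAut.conj x).injective).ge
    rw [Subgroup.mem_normalizer_iff]
    intro z
    conv_rhs => rw [← SetLike.mem_coe, ← he]
    simp only [SetLike.mem_coe, Subgroup.mem_map_equiv, MulAut.conj_symm_apply]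
    rw [show x⁻¹ * (x * z * x⁻¹) * x = z by group]
  set B : Subgroup G := Subgroup.zpowers y ⊔ Subgroup.zpowers x with hB
  have hBA : B ≤ A := sup_le (Subgroup.zpowers_le.2 hy) (Subgroup.zpowers_le.2 hx)
  have hBN : B ≤ Subgroup.normalizer (Subgroup.zpowers y : Set G) :=
    sup_le Subgroup.le_normalizer (Subgroup.zpowers_le.2 hxN)
  set N : Subgroup B := (Subgroup.zpowers y).subgroupOf B with hN
  set C : Subgroup B := (Subgroup.zpowers x).subgroupOf B with hC
  haveI : N.Normal := ⟨fun n hn b => by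
    rw [hN, Subgroup.mem_subgroupOf] at hn ⊢
    exact (Subgroup.mem_normalizer_iff.1 (hBN b.2) _).1 hn⟩
  have hyB : y ∈ B := Subgroup.mem_sup_left (Subgroup.mem_zpowers y)
  have hxB : x ∈ B := Subgroup.mem_sup_right (Subgroup.mem_zpowers x)
  have hdisj : Subgroup.zpowers y ⊓ Subgroup.zpowers x = ⊥ := by
    refine Subgroup.inf_eq_bot_of_coprime ?_
    rw [Nat.card_zpowers, Nat.card_zpowers, hxo, hyo]
    exact (Nat.coprime_primes Fact.out Fact.out).2 hpr
  have hc : Subgroup.IsComplement' N C := by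
    refine Subgroup.isComplement'_of_disjoint_and_mul_eq_univ ?_ ?_
    · rw [disjoint_iff, eq_bot_iff]
      intro z hz
      have : (z : G) ∈ Subgroup.zpowers y ⊓ Subgroup.zpowers x := ⟨hz.1, hz.2⟩
      rw [hdisj, Subgroup.mem_bot] at this
      exact Subgroup.mem_bot.2 (Subtype.ext this)
    · refine Set.eq_univ_of_forall fun b => ?_
      have hb : (b : G) ∈ ((Subgroup.zpowers y ⊔ Subgroup.zpowers x : Subgroup G) : Set G) := b.2
      rw [Subgroup.coe_mul_of_right_le_normalizer_left (Subgroup.zpowers y) (Subgroup.zpowers x) (Subgroup.zpowers_le.2 hxN)] at hb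
      obtain ⟨n, hn, c, hc, hnc⟩ := hb
      exact ⟨⟨n, Subgroup.mem_sup_left hn⟩, hn, ⟨c, Subgroup.mem_sup_right hc⟩, hc, Subtype.ext hnc⟩
  have hNne : N ≠ ⊥ := by
    intro h
    have : (⟨y, hyB⟩ : B) ∈ N := Subgroup.mem_zpowers y
    rw [h, Subgroup.mem_bot] at this
    rw [show y = 1 from congrArg Subtype.val this, orderOf_one] at hyo
    exact (Fact.out : p.Prime).ne_one hyo.symm
  have hCne : C ≠ ⊥ := by
    intro h
    have : (⟨x, hxB⟩ : B) ∈ C := Subgroup.mem_zpowers x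
    rw [h, Subgroup.mem_bot] at this
    rw [show x = 1 from congrArg Subtype.val this, orderOf_one] at hxo
    exact (Fact.out : r.Prime).ne_one hxo.symm
  have hfp : ∀ h ∈ C, h ≠ 1 → N ⊓ Subgroup.centralizer {h} = ⊥ := by
    intro h hh h1
    rw [eq_bot_iff]
    rintro n ⟨hn, hnc⟩
    rw [Subgroup.mem_bot]
    by_contra hn1
    have hco : Commute (n : G) (h : G) :=
      congrArg Subtype.val (Subgroup.mem_centralizer_singleton_iff.1 hnc)
    obtain ⟨i, hi⟩ := mem_zpowers_pow_of_prime hyo hn (fun e => hn1 (Subtype.ext e))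
    obtain ⟨j, hj⟩ := mem_zpowers_pow_of_prime hxo hh (fun e => h1 (Subtype.ext e))
    exact hcomm ((hi ▸ hj ▸ (hco.symm.pow_pow j i) : Commute x y))
  exact fpf_not_frobenius hV (hBA.trans hAV) (fun a ha => hfpf a (hBA ha)) C
    (frob_of_fpf_complement hc hNne hCne hfp).1
where
  mem_zpowers_pow_of_prime {q : ℕ} [Fact q.Prime] {z w : G} (hz : orderOf z = q)
      (hw : w ∈ Subgroup.zpowers z) (hw1 : w ≠ 1) : ∃ i : ℕ, w ^ i = z := by
    obtain ⟨k, rfl⟩ := (mem_powers_iff_mem_zpowers (x := z)).2 hw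
    have hco : (orderOf z).Coprime k := by
      rw [hz]
      refine (Fact.out : q.Prime).coprime_iff_not_dvd.2 fun hd => hw1 ?_
      rw [← hz] at hd
      exact orderOf_dvd_iff_pow_eq_one.1 hd
    exact exists_pow_eq_self_of_coprime hco.symm

theorem center_ne_bot_even (hV : V ≠ ⊥) (hAV : A ≤ Subgroup.normalizer (V : Set G))
    (hfpf : ∀ a ∈ A, a ≠ 1 → V ⊓ Subgroup.centralizer {a} = ⊥)
    (he : Even (Nat.card A)) : ∃ z ∈ A, z ≠ 1 ∧ ∀ g ∈ A, Commute g z := by
  haveI : Fact (Nat.Prime 2) := ⟨Nat.prime_two⟩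
  obtain ⟨⟨s, hsA⟩, hs⟩ := exists_prime_orderOf_dvd_card' 2 (even_iff_two_dvd.1 he)
  rw [Subgroup.orderOf_mk] at hs
  have hss : s * s = 1 := by rw [← sq, ← hs]; exact pow_orderOf_eq_one s
  have hs1 : s ≠ 1 := fun e => by simp [e] at hs
  have hsi : s⁻¹ = s := inv_eq_of_mul_eq_one_right hss
  have hinv : ∀ v ∈ V, s * v * s⁻¹ = v⁻¹ := by
    intro v hv
    have hv' : s * v * s⁻¹ ∈ V := (Subgroup.mem_normalizer_iff.1 (hAV hsA) v).1 hv
    have hm : v * (s * v * s⁻¹) ∈ V ⊓ Subgroup.centralizer {s} := by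
      refine ⟨mul_mem hv hv', Subgroup.mem_centralizer_singleton_iff.2 ?_⟩
      have hcm : v * (s * v * s⁻¹) = s * v * s⁻¹ * v :=
        congrArg Subtype.val (IsMulCommutative.is_comm.comm (⟨v, hv⟩ : V) ⟨_, hv'⟩)
      calc v * (s * v * s⁻¹) * s = v * s * v := by group
        _ = s * (s * v * s⁻¹ * v) := by
          conv_rhs => rw [← mul_assoc, ← mul_assoc, ← mul_assoc, hss, one_mul, hsi]
        _ = s * (v * (s * v * s⁻¹)) := by rw [hcm]
    rw [hfpf s hsA hs1, Subgroup.mem_bot] at hm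
    exact eq_inv_of_mul_eq_one_right hm
  refine ⟨s, hsA, hs1, fun g hg => ?_⟩
  by_contra hne
  have hk : g * s * g⁻¹ * s ∈ A := mul_mem (mul_mem (mul_mem hg hsA) (inv_mem hg)) hsA
  have hk1 : g * s * g⁻¹ * s ≠ 1 := by
    intro e
    apply hne
    have e1 : g * s * g⁻¹ = s := (eq_inv_of_mul_eq_one_left e).trans hsi
    exact mul_inv_eq_iff_eq_mul.1 e1
  refine hV (eq_bot_iff.2 ?_)
  rw [← hfpf _ hk hk1]
  intro v hv
  refine ⟨hv, Subgroup.mem_centralizer_singleton_iff.2 ?_⟩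
  have h1 : g⁻¹ * v⁻¹ * g ∈ V := by
    have := (Subgroup.mem_normalizer_iff.1 (hAV (inv_mem hg)) v⁻¹).1 (inv_mem hv)
    rwa [inv_inv] at this
  have h2 := hinv _ h1
  have h3 : g * s * g⁻¹ * s * v * (g * s * g⁻¹ * s)⁻¹ = v := by
    have h0 := hinv v hv
    calc g * s * g⁻¹ * s * v * (g * s * g⁻¹ * s)⁻¹
        = g * (s * (g⁻¹ * (s * v * s⁻¹) * g) * s⁻¹) * g⁻¹ := by group
      _ = g * (g⁻¹ * v⁻¹ * g)⁻¹ * g⁻¹ := by rw [h0, h2]
      _ = v := by group
  exact (mul_inv_eq_iff_eq_mul.1 h3).symm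

theorem isZGroup_of_odd (hV : V ≠ ⊥) (hAV : A ≤ Subgroup.normalizer (V : Set G))
    (hfpf : ∀ a ∈ A, a ≠ 1 → V ⊓ Subgroup.centralizer {a} = ⊥)
    (hodd : Odd (Nat.card A)) : IsZGroup A := by
  refine ⟨fun p hp P => ?_⟩
  haveI := Fact.mk hp
  have hu : UniqueOrderP p (P : Subgroup A) := by
    intro x y hx hy hy1
    haveI : Nontrivial (P : Subgroup A) := ⟨⟨y, 1, hy1⟩⟩
    haveI := P.isPGroup'.center_nontrivial
    obtain ⟨z, hz⟩ := exists_prime_orderOf_dvd_card' (G := Subgroup.center (P : Subgroup A)) p (by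
      obtain ⟨n, hn⟩ := IsPGroup.iff_card.1 (P.isPGroup'.to_subgroup (Subgroup.center (P : Subgroup A)))
      have h1 : 1 < Nat.card (Subgroup.center (P : Subgroup A)) := Finite.one_lt_card
      rcases n with _ | n
      · rw [hn, pow_zero] at h1; omega
      · rw [hn]; exact dvd_pow_self p n.succ_ne_zero)
    have hzp : ((z : (P : Subgroup A)) : (P : Subgroup A)) ^ p = 1 := by
      have := pow_orderOf_eq_one z
      rw [hz] at this
      exact congrArg Subtype.val this
    have hz1 : (z : (P : Subgroup A)) ≠ 1 := fun e => by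
      rw [show z = 1 from Subtype.ext e, orderOf_one] at hz
      exact hp.ne_one hz.symm
    have key : ∀ w : (P : Subgroup A), w ^ p = 1 → w ∈ Subgroup.zpowers (z : (P : Subgroup A)) := by
      intro w hw
      obtain ⟨k, hk⟩ := fpf_unique_order hV hAV hfpf (p := p)
        (x := ((w : A) : G)) (y := (((z : (P : Subgroup A)) : A) : G)) (w : A).2
        (((z : (P : Subgroup A)) : A)).2
        (congrArg (fun t : (P : Subgroup A) => ((t : A) : G)) (Subgroup.mem_center_iff.1 z.2 w))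
        (by exact_mod_cast congrArg (fun t : (P : Subgroup A) => ((t : A) : G)) hw)
        (by exact_mod_cast congrArg (fun t : (P : Subgroup A) => ((t : A) : G)) hzp)
        (fun e => hz1 (Subtype.ext (Subtype.ext e)))
      exact ⟨k, Subtype.ext (Subtype.ext (by simpa using hk))⟩
    have hle := Subgroup.zpowers_le.2 (key y hy)
    have he := Subgroup.eq_of_le_of_card_ge hle (by
      rw [Nat.card_zpowers, Nat.card_zpowers, orderOf_eq_prime hy hy1, orderOf_eq_prime hzp hz1])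
    rw [he]
    exact key x hx
  rcases cyclic_or_quaternion P.2 hu with h | ⟨rfl, n, ⟨e⟩⟩
  · exact h
  · exfalso
    have hdvd : Nat.card (P : Subgroup A) ∣ Nat.card A := Subgroup.card_subgroup_dvd_card _
    rw [Nat.card_congr e.toEquiv, Nat.card_eq_fintype_card, QuaternionGroup.card] at hdvd
    exact Nat.not_even_iff_odd.2 hodd (even_iff_two_dvd.2 ((dvd_mul_right 2 2).trans
      ((dvd_mul_right 4 _).trans hdvd)))

/-- An automorphism of prime order of a cyclic group of coprime order is trivial if it fixes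
the elements of prime order. -/
theorem commute_of_fixes_prime {K : Subgroup G} [IsMulCommutative K] {r : ℕ} {x : G}
    (hx : x ^ r = 1) (hr : (Nat.card K).Coprime r) (hn : x ∈ Subgroup.normalizer (K : Set G))
    (h : ∀ y ∈ K, (orderOf y).Prime → Commute x y) : ∀ y ∈ K, Commute x y := by
  intro y hy
  have hmem : ∀ v ∈ K, x * v * x⁻¹ * v⁻¹ ∈ K := fun v hv =>
    mul_mem ((Subgroup.mem_normalizer_iff.1 hn v).1 hv) (inv_mem hv)
  have hkc : ∀ v ∈ K, ∀ w ∈ K, v * w = w * v := fun v hv w hw =>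
    congrArg Subtype.val (IsMulCommutative.is_comm.comm (⟨v, hv⟩ : K) ⟨w, hw⟩)
  let φ : K →* K :=
    { toFun := fun v => ⟨x * v * x⁻¹ * (v : G)⁻¹, hmem v v.2⟩
      map_one' := Subtype.ext (by simp)
      map_mul' := fun v w => Subtype.ext (by
        show x * ((v : G) * w) * x⁻¹ * ((v : G) * w)⁻¹ = x * v * x⁻¹ * (v : G)⁻¹ * (x * w * x⁻¹ * (w : G)⁻¹)
        have e := hkc _ (inv_mem v.2) _ (hmem w w.2)
        calc x * ((v : G) * w) * x⁻¹ * ((v : G) * w)⁻¹
            = x * v * x⁻¹ * ((x * w * x⁻¹ * (w : G)⁻¹) * (v : G)⁻¹) := by group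
          _ = x * v * x⁻¹ * ((v : G)⁻¹ * (x * w * x⁻¹ * (w : G)⁻¹)) := by rw [e]
          _ = _ := by group) }
  by_contra hne
  have hne1 : φ.range ≠ ⊥ := by
    intro hb
    have : φ ⟨y, hy⟩ = 1 := Subgroup.mem_bot.1 (hb ▸ ⟨_, rfl⟩)
    exact hne (mul_inv_eq_iff_eq_mul.1 (mul_inv_eq_one.1 (congrArg Subtype.val this)))
  obtain ⟨q, hq, hqd⟩ := Nat.exists_prime_and_dvd
    (show Nat.card φ.range ≠ 1 from fun e => hne1 (Subgroup.card_eq_one.1 e))
  haveI := Fact.mk hq
  obtain ⟨⟨w, hwr⟩, hw⟩ := exists_prime_orderOf_dvd_card' q hqd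
  rw [Subgroup.orderOf_mk, ← Subgroup.orderOf_coe] at hw
  obtain ⟨v, hv⟩ := hwr
  have hcw : Commute x (w : G) := h w w.2 (hw ▸ hq)
  have hc : x * v * x⁻¹ = (w : G) * v := by
    have := congrArg Subtype.val hv
    exact (mul_inv_eq_iff_eq_mul.1 this)
  have hiter : ∀ n : ℕ, x ^ n * v * (x ^ n)⁻¹ = (w : G) ^ n * v := by
    intro n
    induction n with
    | zero => simp
    | succ n ih =>
      calc x ^ (n + 1) * v * (x ^ (n + 1))⁻¹ = x * (x ^ n * v * (x ^ n)⁻¹) * x⁻¹ := by group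
        _ = (x * (w : G) ^ n * x⁻¹) * (x * v * x⁻¹) := by rw [ih]; group
        _ = (w : G) ^ n * ((w : G) * v) := by rw [hc, (hcw.pow_right n).eq, mul_inv_cancel_right]
        _ = _ := by rw [← mul_assoc, pow_succ]
  have h2 := hiter r
  rw [hx, inv_one, mul_one, one_mul, eq_comm, mul_eq_right] at h2
  have hd : orderOf (w : G) ∣ Nat.card K := by
    rw [Subgroup.orderOf_coe]; exact orderOf_dvd_natCard w
  have h3 : orderOf (w : G) ∣ 1 := hr ▸ Nat.dvd_gcd hd (orderOf_dvd_of_pow_eq_one h2)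
  rw [hw] at h3
  exact hq.ne_one (Nat.dvd_one.1 h3)

theorem center_ne_bot_odd (hV : V ≠ ⊥) (hAV : A ≤ Subgroup.normalizer (V : Set G))
    (hfpf : ∀ a ∈ A, a ≠ 1 → V ⊓ Subgroup.centralizer {a} = ⊥)
    (hA : A ≠ ⊥) (hodd : Odd (Nat.card A)) : ∃ z ∈ A, z ≠ 1 ∧ ∀ g ∈ A, Commute g z := by
  haveI := isZGroup_of_odd hV hAV hfpf hodd
  haveI : Nontrivial A := (Subgroup.nontrivial_iff_ne_bot A).2 hA
  haveI := IsZGroup.isCyclic_commutator (G := A)
  set D : Subgroup A := commutator A with hD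
  obtain ⟨r, hr, hrd⟩ := Nat.exists_prime_and_dvd
    (fun h => (IsZGroup.commutator_lt (G := A)).ne (Subgroup.index_eq_one.1 h) : D.index ≠ 1)
  haveI := Fact.mk hr
  obtain ⟨x, hx⟩ := exists_prime_orderOf_dvd_card' r (hrd.trans D.index_dvd_card)
  have hco : (Nat.card D).Coprime r :=
    (IsZGroup.coprime_commutator_index (G := A)).coprime_dvd_right hrd
  haveI : IsMulCommutative D := ⟨⟨fun a b => (IsCyclic.commGroup (α := D)).mul_comm a b⟩⟩
  have hxN : x ∈ Subgroup.normalizer (D : Set A) := by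
    rw [Subgroup.normalizer_eq_top_iff.2 (inferInstance : D.Normal)]; trivial
  have hxD : ∀ y ∈ D, Commute x y := by
    refine commute_of_fixes_prime (hx ▸ pow_orderOf_eq_one x) hco hxN fun y hy hyp => ?_
    haveI := Fact.mk hyp
    have hne : orderOf y ≠ r := by
      intro e
      have : r ∣ Nat.card D := e ▸ (by
        have := orderOf_dvd_natCard (⟨y, hy⟩ : D)
        rwa [Subgroup.orderOf_mk] at this)
      exact hr.ne_one (Nat.dvd_one.1 (hco ▸ Nat.dvd_gcd this dvd_rfl))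
    have hy' : x * y * x⁻¹ ∈ D := (Subgroup.mem_normalizer_iff.1 hxN y).1 hy
    have hcomm : Commute (x * y * x⁻¹) y :=
      congrArg Subtype.val (IsMulCommutative.is_comm.comm (⟨_, hy'⟩ : D) ⟨y, hy⟩)
    have hyp' : (y : G) ^ orderOf y = 1 := by
      rw [← Subgroup.orderOf_coe]; exact pow_orderOf_eq_one _
    have hy1 : (y : G) ≠ 1 := fun e => by
      rw [show y = 1 from Subtype.ext e, orderOf_one] at hyp
      exact Nat.not_prime_one hyp
    obtain ⟨k, hk⟩ := fpf_unique_order hV hAV hfpf (p := orderOf y)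
      (x := ((x * y * x⁻¹ : A) : G)) (y := (y : G)) (x * y * x⁻¹ : A).2 y.2
      (congrArg Subtype.val hcomm)
      (by rw [← SubmonoidClass.coe_pow, conj_pow, pow_orderOf_eq_one, mul_one, mul_inv_cancel]; rfl)
      hyp' hy1
    have := commute_of_prime_normalizes hV hAV hfpf (p := orderOf y) (r := r) hne x.2 y.2
      (by rw [Subgroup.orderOf_coe, hx]) (Subgroup.orderOf_coe y)
      ⟨k, by simpa using hk⟩
    exact Subtype.ext this
  refine ⟨x, x.2, fun e => by simp [show x = 1 from Subtype.ext e] at hx; exact hr.ne_one hx.symm,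
    fun g hg => ?_⟩
  have hk : ⁅(⟨g, hg⟩ : A), x⁆ ∈ D := Subgroup.commutator_mem_commutator (Subgroup.mem_top _) (Subgroup.mem_top _)
  set c := ⁅(⟨g, hg⟩ : A), x⁆ with hc
  have hcx : Commute c x := (hxD c hk).symm
  have hpow : c ^ r = 1 := by
    have e : c * x = (⟨g, hg⟩ : A) * x * (⟨g, hg⟩ : A)⁻¹ := by rw [hc, commutatorElement_def]; group
    have := congrArg (· ^ r) e
    simp only [hcx.mul_pow, conj_pow, ← hx, pow_orderOf_eq_one, mul_one, mul_inv_cancel] at this
    rw [← hx]; exact this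
  have hd : orderOf c ∣ 1 := hco ▸ Nat.dvd_gcd (by
    have := orderOf_dvd_natCard (⟨c, hk⟩ : D)
    rwa [Subgroup.orderOf_mk] at this) (orderOf_dvd_of_pow_eq_one hpow)
  have hc1 : c = 1 := orderOf_eq_one_iff.1 (Nat.dvd_one.1 hd)
  rw [hc, commutatorElement_eq_one_iff_mul_comm] at hc1
  exact congrArg Subtype.val hc1

/-- A fixed-point-free group of automorphisms has a nontrivial centre. -/
theorem center_ne_bot (hV : V ≠ ⊥) (hAV : A ≤ Subgroup.normalizer (V : Set G))
    (hfpf : ∀ a ∈ A, a ≠ 1 → V ⊓ Subgroup.centralizer {a} = ⊥) (hA : A ≠ ⊥) :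
    ∃ z ∈ A, z ≠ 1 ∧ ∀ g ∈ A, Commute g z := by
  rcases Nat.even_or_odd (Nat.card A) with he | ho
  · exact center_ne_bot_even hV hAV hfpf he
  · exact center_ne_bot_odd hV hAV hfpf hA ho

end Cfsg.Agent.Lie.RankThree
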