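import Cfsg.Agent.Lib.Char.Exceptional
import Cfsg.Agent.Lib.Char.Induction
import Cfsg.Agent.Lib.Char.Linear
import Cfsg.Agent.Lib.Char.Convolution

/-!
# An exceptional-character fact for self-centralizing abelian subgroups
-/

set_option autoImplicit false
set_option linter.unusedSectionVars false
set_option linter.style.haveILetI false

open Cfsg Cfsg.Agent.Char
open scoped ComplexConjugate

namespace Cfsg.Agent.Lie.RankThree

universe u

variable {G : Type u} [Group G] [Fintype G] {H : Subgroup G} [Fintype H]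

/-- Conjugate of a linear character by an element normalising `H`. -/
noncomputable def twist (x : G) (hx : x ∈ Subgroup.normalizer (H : Set G)) (θ : H → ℂ) : H → ℂ :=
  fun h => θ ⟨x * h * x⁻¹, (Subgroup.mem_normalizer_iff.1 hx h).1 h.2⟩

theorem sum_twist (x : G) (hx : x ∈ Subgroup.normalizer (H : Set G)) (θ : H → ℂ) :
    ∑ h : H, twist x hx θ h = ∑ h : H, θ h :=
  Equiv.sum_comp (⟨fun h => ⟨x * h * x⁻¹, (Subgroup.mem_normalizer_iff.1 hx h).1 h.2⟩,
    fun h => ⟨x⁻¹ * h * x, by simpa using (Subgroup.mem_normalizer_iff.1 (inv_mem hx) h).1 h.2⟩,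
    fun h => Subtype.ext (by group), fun h => Subtype.ext (by group)⟩ : H ≃ H) θ

theorem ti (hC : ∀ h ∈ H, h ≠ 1 → ∀ y, y ∈ H ↔ Commute y h) {g h : G} (hh : h ∈ H) (h1 : h ≠ 1)
    (hg : g * h * g⁻¹ ∈ H) : g ∈ Subgroup.normalizer (H : Set G) := by
  rw [Subgroup.mem_normalizer_iff]
  intro y
  rw [hC h hh h1, hC _ hg (by simpa using h1)]
  constructor <;> intro hc
  · show g * y * g⁻¹ * (g * h * g⁻¹) = g * h * g⁻¹ * (g * y * g⁻¹)
    calc _ = g * (y * h) * g⁻¹ := by group
      _ = g * (h * y) * g⁻¹ := by rw [hc.eq]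
      _ = _ := by group
  · show y * h = h * y
    calc y * h = g⁻¹ * ((g * y * g⁻¹) * (g * h * g⁻¹)) * g := by group
      _ = g⁻¹ * ((g * h * g⁻¹) * (g * y * g⁻¹)) * g := by rw [hc.eq]
      _ = _ := by group

/-- Values on `H` of the function induced from a function of degree zero. -/
theorem indFun_restrict (hC : ∀ h ∈ H, h ≠ 1 → ∀ y, y ∈ H ↔ Commute y h) (θ : H → ℂ) (h1 : θ 1 = 0)
    (h : H) [DecidablePred (· ∈ Subgroup.normalizer (H : Set G))] :
    indFun H θ h = (Nat.card H : ℂ)⁻¹ *
      ∑ x : Subgroup.normalizer (H : Set G), twist (x : G) x.2 θ h := by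
  classical
  rw [indFun]
  congr 1
  rw [← Fintype.sum_equiv (Equiv.inv G) (fun x => extendByZero H θ (x * (h : G) * x⁻¹))
    (fun x => extendByZero H θ (x⁻¹ * (h : G) * x)) (fun x => by simp)]
  rw [← Finset.sum_subset (Finset.subset_univ (Finset.univ.filter (· ∈ Subgroup.normalizer (H : Set G))))]
  · rw [← Finset.sum_subtype (p := (· ∈ Subgroup.normalizer (H : Set G)))
      (Finset.univ.filter (· ∈ Subgroup.normalizer (H : Set G))) (by simp)
      (fun x => extendByZero H θ (x * (h : G) * x⁻¹)) |>.symm]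
    refine Finset.sum_congr rfl fun x _ => ?_
    exact extendByZero_mem H θ _
  · intro x _ hx
    simp only [Finset.mem_filter, Finset.mem_univ, true_and] at hx
    by_cases hm : x * (h : G) * x⁻¹ ∈ H
    · by_cases hh : h = 1
      · subst hh
        rw [extendByZero_mem H θ hm, ← h1]
        congr 1
        ext
        simp
      · exact absurd (ti hC h.2 (fun e => hh (Subtype.ext e)) hm) hx
    · exact extendByZero_not_mem H θ hm

theorem indFun_eq_zero_of_not_conj (θ : H → ℂ) {g : G} (hg : ∀ x : G, x * g * x⁻¹ ∉ H) :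
    indFun H θ g = 0 := by
  rw [indFun, Finset.sum_eq_zero, mul_zero]
  intro x _
  refine extendByZero_not_mem H θ ?_
  have := hg x⁻¹
  rwa [inv_inv] at this

/-- A nontrivial linear character is fixed only by `H` in the normalizer. -/
theorem mem_of_twist_eq (hC : ∀ h ∈ H, h ≠ 1 → ∀ y, y ∈ H ↔ Commute y h) (l : H →* ℂˣ)
    (hl : (fun h : H => ((l h : ℂˣ) : ℂ)) ≠ fun _ => 1) (x : G) (hx : x ∈ Subgroup.normalizer (H : Set G))
    (he : twist x hx (fun h : H => ((l h : ℂˣ) : ℂ)) = fun h : H => ((l h : ℂˣ) : ℂ)) : x ∈ H := by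
  by_contra hxH
  let k : H → H := fun h =>
    ⟨x * h * x⁻¹ * (h : G)⁻¹, mul_mem ((Subgroup.mem_normalizer_iff.1 hx h).1 h.2) (inv_mem h.2)⟩
  have hkc : ∀ v ∈ H, ∀ w ∈ H, v * w = w * v := by
    intro v hv w hw
    by_cases hw1 : w = 1
    · simp [hw1]
    exact ((hC w hw hw1 v).1 hv).eq
  have hinj : Function.Injective k := by
    intro a b hab
    have e : x * (a : G) * x⁻¹ * (a : G)⁻¹ = x * (b : G) * x⁻¹ * (b : G)⁻¹ := congrArg Subtype.val hab
    by_contra hne
    have hab1 : (a : G)⁻¹ * b ≠ 1 := fun h => hne (Subtype.ext (inv_mul_eq_one.1 h))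
    refine hxH ((hC _ (mul_mem (inv_mem a.2) b.2) hab1 x).2 ?_)
    have e2 : x * ((a : G)⁻¹ * b) * x⁻¹ = (a : G)⁻¹ * b := by
      calc x * ((a : G)⁻¹ * b) * x⁻¹
          = (a : G)⁻¹ * ((x * (a : G) * x⁻¹ * (a : G)⁻¹)⁻¹ * (x * (b : G) * x⁻¹ * (b : G)⁻¹)) * b := by group
        _ = _ := by rw [e]; group
    exact mul_inv_eq_iff_eq_mul.1 e2
  refine hl (funext fun h => ?_)
  obtain ⟨a, ha⟩ := (Finite.injective_iff_surjective.1 hinj) h
  have h2 : l ⟨x * (a : G) * x⁻¹, (Subgroup.mem_normalizer_iff.1 hx a).1 a.2⟩ = l a :=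
    Units.ext (congrFun he a)
  rw [← ha, show k a = ⟨x * (a : G) * x⁻¹, (Subgroup.mem_normalizer_iff.1 hx a).1 a.2⟩ * a⁻¹ from rfl,
    map_mul, h2, map_inv, mul_inv_cancel, Units.val_one]

/-- If `H` is abelian and equals the centralizer of each of its nontrivial elements, and the
characters are multiplicative on `(u, h)`, then all `u h` are conjugate. -/
theorem isConj_mul (hC : ∀ h ∈ H, h ≠ 1 → ∀ y, y ∈ H ↔ Commute y h) {u : G}
    (hu : ∀ x : G, x * u * x⁻¹ ∉ H)
    (hd : ∀ h ∈ H, h ≠ 1 → ∀ x : G, x * (u * h) * x⁻¹ ∉ H)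
    (hmul : ∀ h ∈ H, h ≠ 1 → ∀ χ : G → ℂ, IsIrrCharacter G χ → χ 1 * χ (u * h) = χ u * χ h)
    {h h' : G} (hh : h ∈ H) (h1 : h ≠ 1) (hh' : h' ∈ H) (h1' : h' ≠ 1) :
    IsConj (u * h) (u * h') := by
  classical
  refine isConj_of_forall_irr_eq fun χ' => ?_
  obtain ⟨χ, hχ⟩ := χ'
  refine mul_left_cancel₀ (irr_one_ne_zero hχ) ?_
  rw [hmul h hh h1 χ hχ, hmul h' hh' h1' χ hχ]
  by_cases hu0 : χ u = 0
  · rw [hu0, zero_mul, zero_mul]
  congr 1
  have hlin : ∀ ψ : IrrCharacter H, ∃ l : H →* ℂˣ, ((ψ : H → ℂ)) = fun y => ((l y : ℂˣ) : ℂ) := by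
    intro ψ
    have hab : ∀ a b : H, a * b = b * a := fun a b => by
      by_cases hb : b = 1
      · simp [hb]
      exact Subtype.ext (((hC b b.2 (fun e => hb (Subtype.ext e)) a).1 a.2).eq)
    obtain ⟨l, hl⟩ := exists_hom_of_degree_one (irr_isCharacter ψ.2) ((forall_linear_iff_comm).1 hab ψ)
    exact ⟨l, funext fun y => (congrFun hl y)⟩
  set r : H → ℂ := fun y => χ (y : G) with hr
  have hrc : IsCharacter H r := isCharacter_comp H.subtype (irr_isCharacter hχ)
  have hrcl : IsClassFunction H r := isClassFunction_character hrc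
  set e1 : IrrCharacter H := ⟨fun _ => 1, isIrrCharacter_one⟩ with he1
  by_cases hconst : ∀ lam mu : IrrCharacter H, lam ≠ e1 → mu ≠ e1 →
      classInner r (lam : H → ℂ) = classInner r (mu : H → ℂ)
  · -- `χ` is constant on nontrivial elements of `H`
    have key : ∀ y : H, y ≠ 1 → ∀ y' : H, y' ≠ 1 → r y = r y' := by
      by_cases hex : ∃ lam : IrrCharacter H, lam ≠ e1
      · obtain ⟨lam, hlam⟩ := hex
        intro y hy y' hy'
        have hval : ∀ z : H, z ≠ 1 → r z = classInner r (e1 : H → ℂ) - classInner r (lam : H → ℂ) := by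
          intro z hz
          have hex := congrFun (classFun_expansion hrcl) z
          simp only [Finset.sum_apply, Pi.smul_apply, smul_eq_mul] at hex
          have hreg := regular_sum z
          rw [if_neg hz] at hreg
          rw [hex, ← Finset.add_sum_erase _ _ (Finset.mem_univ e1),
            Finset.sum_congr rfl (fun ψ hψ => by
              rw [hconst ψ lam (Finset.ne_of_mem_erase hψ) hlam]), ← Finset.mul_sum]
          rw [← Finset.add_sum_erase _ _ (Finset.mem_univ e1)] at hreg
          have hone : ∀ ψ : IrrCharacter H, (ψ : H → ℂ) 1 = 1 := fun ψ => by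
            obtain ⟨l, hl⟩ := hlin ψ
            rw [congrFun hl 1, map_one, Units.val_one]
          simp only [hone, one_mul] at hreg
          rw [eq_neg_of_add_eq_zero_right hreg]
          simp [he1, sub_eq_add_neg]
        rw [hval y hy, hval y' hy']
      · push Not at hex
        intro y hy y' hy'
        have hex' := congrFun (classFun_expansion hrcl) y
        have hex2 := congrFun (classFun_expansion hrcl) y'
        simp only [Finset.sum_apply, Pi.smul_apply, smul_eq_mul] at hex' hex2
        rw [hex', hex2]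
        refine Finset.sum_congr rfl fun ψ _ => ?_
        rw [hex ψ, he1]
    exact key ⟨h, hh⟩ (fun e => h1 (congrArg Subtype.val e)) ⟨h', hh'⟩ (fun e => h1' (congrArg Subtype.val e))
  · exfalso
    push Not at hconst
    obtain ⟨lam, mu, hlam, hmu, hne⟩ := hconst
    set θ : H → ℂ := (lam : H → ℂ) - (mu : H → ℂ) with hθ
    obtain ⟨l, hl⟩ := hlin lam
    obtain ⟨m, hm⟩ := hlin mu
    have hθ1 : θ 1 = 0 := by rw [hθ, Pi.sub_apply, hl, hm]; simp
    set φ := indFun H θ with hφ
    have hgen : IsGeneralizedCharacter G φ := ⟨indFun H (lam : H → ℂ), indFun H (mu : H → ℂ),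
      isCharacter_indFun H (irr_isCharacter lam.2), isCharacter_indFun H (irr_isCharacter mu.2),
      by rw [hφ, hθ, indFun_sub]⟩
    -- inner products of twists
    have hne' : lam ≠ mu := fun e => hne (by rw [e])
    have htw : ∀ x : Subgroup.normalizer (H : Set G),
        classInner θ (twist (x : G) x.2 θ) = if (x : G) ∈ H then 2 else 0 := by
      intro x
      have hirr : ∀ ψ : IrrCharacter H, ∃ ψ' : IrrCharacter H, (ψ' : H → ℂ) = twist (x : G) x.2 (ψ : H → ℂ) := by
        intro ψ
        obtain ⟨lψ, hlψ⟩ := hlin ψ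
        let f : H →* H :=
          { toFun := fun y => ⟨(x : G) * y * (x : G)⁻¹, (Subgroup.mem_normalizer_iff.1 x.2 y).1 y.2⟩
            map_one' := Subtype.ext (by simp)
            map_mul' := fun a b => Subtype.ext (by show _ = _ * _; simp) }
        exact ⟨⟨_, isIrrCharacter_linear (lψ.comp f)⟩, funext fun y => (congrFun hlψ (f y)).symm⟩
      obtain ⟨lam', hlam'⟩ := hirr lam
      obtain ⟨mu', hmu'⟩ := hirr mu
      have hinner : ∀ ψ ψ' : IrrCharacter H, (ψ' : H → ℂ) = twist (x : G) x.2 (ψ : H → ℂ) →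
          classInner r (ψ' : H → ℂ) = classInner r (ψ : H → ℂ) := by
        intro ψ ψ' hψ
        rw [classInner, classInner, hψ]
        congr 1
        conv_rhs => rw [← sum_twist (x : G) x.2 (fun y => r y * conj ((ψ : H → ℂ) y))]
        refine Finset.sum_congr rfl fun y _ => ?_
        simp only [twist, hr]
        rw [isClassFunction_character (irr_isCharacter hχ) (y : G) (x : G)]
      have htwθ : twist (x : G) x.2 θ = (lam' : H → ℂ) - (mu' : H → ℂ) := by
        rw [hlam', hmu']; rfl
      rw [htwθ, hθ, classInner_sub_left, classInner_sub_right, classInner_sub_right, irrC_orth,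
        irrC_orth, irrC_orth, irrC_orth]
      have h12 : lam ≠ mu' := fun e => hne (by rw [e]; exact hinner mu mu' hmu')
      have h21 : mu ≠ lam' := fun e => hne (by rw [e]; exact (hinner lam lam' hlam').symm)
      rw [if_neg h12, if_neg h21]
      by_cases hxH : (x : G) ∈ H
      · have hfix : ∀ ψ ψ' : IrrCharacter H, (ψ' : H → ℂ) = twist (x : G) x.2 (ψ : H → ℂ) → ψ = ψ' := by
          intro ψ ψ' hψ
          refine Subtype.ext (funext fun y => ?_)
          rw [hψ]
          show (ψ : H → ℂ) y = (ψ : H → ℂ) _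
          refine congrArg (ψ : H → ℂ) (Subtype.ext ?_)
          show (y : G) = (x : G) * y * (x : G)⁻¹
          by_cases hy : y = 1
          · simp [hy]
          rw [((hC y y.2 (fun e => hy (Subtype.ext e)) (x : G)).1 hxH).eq, mul_inv_cancel_right]
        rw [if_pos (hfix _ _ hlam'), if_pos (hfix _ _ hmu'), if_pos hxH]
        norm_num
      · have h11 : lam ≠ lam' := by
          intro e
          refine hxH (mem_of_twist_eq hC l ?_ (x : G) x.2 ?_)
          · rw [← hl]; exact fun e' => hlam (Subtype.ext e')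
          · rw [← hl, ← hlam', ← e]
        have h22 : mu ≠ mu' := by
          intro e
          refine hxH (mem_of_twist_eq hC m ?_ (x : G) x.2 ?_)
          · rw [← hm]; exact fun e' => hmu (Subtype.ext e')
          · rw [← hm, ← hmu', ← e]
        rw [if_neg h11, if_neg h22, if_neg hxH]
        norm_num
    have hnorm : classInner φ φ = 2 := by
      rw [hφ, frobenius H θ (isClassFunction_indFun H θ)]
      have : (fun y : H => indFun H θ (y : G)) =
          (Nat.card H : ℂ)⁻¹ • ∑ x : Subgroup.normalizer (H : Set G), twist (x : G) x.2 θ := by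
        funext y
        rw [indFun_restrict hC θ hθ1 y]
        simp [Finset.sum_apply]
      rw [this, classInner_smul_right, classInner_sum_right, Finset.sum_congr rfl (fun x _ => htw x)]
      rw [← Finset.sum_filter, Finset.sum_const, nsmul_eq_mul, map_inv₀, map_natCast]
      have hcard : (Finset.univ.filter (fun x : Subgroup.normalizer (H : Set G) => (x : G) ∈ H)).card =
          Nat.card H := by
        rw [← Fintype.card_subtype, ← Nat.card_eq_fintype_card]
        exact Nat.card_congr ⟨fun x => ⟨_, x.2⟩, fun y => ⟨⟨y, Subgroup.le_normalizer y.2⟩, y.2⟩,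
          fun x => rfl, fun y => rfl⟩
      rw [hcard, ← mul_assoc, inv_mul_cancel₀ (Nat.cast_ne_zero.2 Nat.card_pos.ne'), one_mul]
    obtain ⟨a, b, hab, hφab⟩ := exists_pair_of_norm_two hgen
      (by rw [hφ, indFun_one, hθ1, mul_zero]) hnorm
    -- `χ` is one of the two
    have hcoef : classInner φ χ ≠ 0 := by
      rw [hφ, frobenius H θ (isClassFunction_character (irr_isCharacter hχ)), hθ, classInner_sub_left]
      intro h0
      rw [sub_eq_zero] at h0
      exact hne (by rw [← classInner_symm (lam : H → ℂ) r, ← classInner_symm (mu : H → ℂ) r, h0])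
    have hor : ⟨χ, hχ⟩ = a ∨ (⟨χ, hχ⟩ : IrrCharacter G) = b := by
      by_contra hnot
      push Not at hnot
      apply hcoef
      rw [hφab, classInner_sub_left, show χ = ((⟨χ, hχ⟩ : IrrCharacter G) : G → ℂ) from rfl,
        irrC_orth, irrC_orth, if_neg hnot.1.symm, if_neg hnot.2.symm, sub_zero]
    have hzero : ∀ g : G, (∀ x : G, x * g * x⁻¹ ∉ H) → (a : G → ℂ) g = (b : G → ℂ) g := by
      intro g hg
      have := indFun_eq_zero_of_not_conj θ hg
      rw [← hφ, hφab, Pi.sub_apply, sub_eq_zero] at this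
      exact this
    have h11 : (a : G → ℂ) 1 = (b : G → ℂ) 1 := by
      have : φ 1 = 0 := by rw [hφ, indFun_one, hθ1, mul_zero]
      rwa [hφab, Pi.sub_apply, sub_eq_zero] at this
    have hau : (a : G → ℂ) u = 0 := by
      by_contra hau
      have hsame : ∀ y : H, (a : G → ℂ) y = (b : G → ℂ) y := by
        intro y
        by_cases hy : y = 1
        · rw [hy]; exact h11
        have hy' : (y : G) ≠ 1 := fun e => hy (Subtype.ext e)
        have ea := hmul y y.2 hy' a a.2
        have eb := hmul y y.2 hy' b b.2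
        rw [← hzero _ (hd y y.2 hy'), ← h11, ← hzero u hu, ea] at eb
        exact mul_left_cancel₀ hau eb
      have h0 : classInner φ φ = 0 := by
        rw [hφ, frobenius H θ (isClassFunction_indFun H θ)]
        have : (fun y : H => indFun H θ (y : G)) = 0 := funext fun y => by
          rw [← hφ, hφab, Pi.sub_apply, hsame y, sub_self, Pi.zero_apply]
        rw [this]
        simp [classInner]
      rw [hnorm] at h0
      norm_num at h0
    rcases hor with e | e
    · exact hu0 (by rw [show χ = (a : G → ℂ) from congrArg Subtype.val e, hau])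
    · exact hu0 (by rw [show χ = (b : G → ℂ) from congrArg Subtype.val e, ← hzero u hu, hau])

end Cfsg.Agent.Lie.RankThree
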