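import Cfsg.Agent.Lib.Lie.RankThree.Basic
import Cfsg.Agent.Lib.Lie.RankThree.TI
import Cfsg.Agent.Lib.Lie.RankThree.Frob
import Mathlib.GroupTheory.Transfer

/-!
# Three centralizer indices in a simple group: no two are comparable
-/

set_option autoImplicit false
set_option linter.unusedSectionVars false
set_option linter.style.haveILetI false

open Cfsg Cfsg.Agent.Char

namespace Cfsg.Agent.Lie.RankThree

universe u

variable {G : Type u} [Group G] [Finite G]

/-- A subgroup of index prime to `p` contains a conjugate of every Sylow `p`-subgroup. -/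
theorem sylow_conj_le {p : ℕ} [Fact p.Prime] (S : Subgroup G) (hS : ¬ p ∣ S.index) (P : Sylow p G) :
    ∃ g : G, ∀ x ∈ (P : Subgroup G), g * x * g⁻¹ ∈ S := by
  obtain ⟨T⟩ : Nonempty (Sylow p S) := inferInstance
  have hidx : ((T : Subgroup S).map S.subtype).index = (T : Subgroup S).index * S.index := by
    rw [Subgroup.index_map_of_injective _ S.subtype_injective, Subgroup.range_subtype]
  have hp : IsPGroup p ((T : Subgroup S).map S.subtype) := T.isPGroup'.map _
  have hndvd : ¬ p ∣ ((T : Subgroup S).map S.subtype).index := by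
    rw [hidx]
    exact fun h => ((Fact.out : p.Prime).dvd_mul.1 h).elim T.not_dvd_index hS
  set T' : Sylow p G := hp.toSylow hndvd with hT'
  obtain ⟨g, hg⟩ := MulAction.exists_smul_eq G P T'
  refine ⟨g, fun x hx => ?_⟩
  have hm : g * x * g⁻¹ ∈ (T' : Subgroup G) := by
    rw [← hg, Sylow.coe_subgroup_smul]
    exact Subgroup.smul_mem_pointwise_smul x (MulAut.conj g) _ hx
  exact Subgroup.map_subtype_le (T : Subgroup S) hm

/-- If an index prime to `p` is attained, it is attained by an element centralizing `P`. -/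
theorem exists_cent_sylow {p : ℕ} [Fact p.Prime] (P : Sylow p G) {x : G} (hx : ¬ p ∣ cidx x) :
    ∃ g : G, (P : Subgroup G) ≤ Subgroup.centralizer ({g * x * g⁻¹} : Set G) := by
  obtain ⟨g, hg⟩ := sylow_conj_le (Subgroup.centralizer ({x} : Set G)) hx P
  refine ⟨g⁻¹, fun y hy => mem_cent.2 ?_⟩
  have h := mem_cent.1 (hg y hy)
  rw [inv_inv]
  show y * (g⁻¹ * x * g) = g⁻¹ * x * g * y
  calc y * (g⁻¹ * x * g) = g⁻¹ * ((g * y * g⁻¹) * x) * g := by group
    _ = g⁻¹ * (x * (g * y * g⁻¹)) * g := by rw [h.eq]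
    _ = _ := by group

variable [IsSimpleGroup G]

/-- The hypothesis: exactly three values `a, b, c`, with `a` properly dividing `b`. -/
structure Comp (G : Type u) [Group G] (a b c : ℕ) : Prop where
  na : ¬ IsMulCommutative G
  val : ∀ x : G, x ≠ 1 → cidx x = a ∨ cidx x = b ∨ cidx x = c
  exA : ∃ x : G, x ≠ 1 ∧ cidx x = a
  exC : ∃ x : G, x ≠ 1 ∧ cidx x = c
  dvd : a ∣ b
  neAB : a ≠ b
  neAC : a ≠ c
  neBC : b ≠ c

variable {a b c : ℕ}

theorem Comp.dvd_card (h : Comp G a b c) : a ∣ Nat.card G ∧ c ∣ Nat.card G := by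
  obtain ⟨x, -, hx⟩ := h.exA
  obtain ⟨y, -, hy⟩ := h.exC
  exact ⟨hx ▸ Subgroup.index_dvd_card _, hy ▸ Subgroup.index_dvd_card _⟩

theorem Comp.coprime (h : Comp G a b c) : a.Coprime c := by
  refine Nat.coprime_of_dvd fun p hp hpa hpc => ?_
  haveI := Fact.mk hp
  obtain ⟨P⟩ : Nonempty (Sylow p G) := inferInstance
  obtain ⟨z, -, hz1, -, hz⟩ := exists_central_elt p (hpa.trans h.dvd_card.1) P
  rcases h.val z hz1 with e | e | e <;> rw [e] at hz
  · exact hz hpa
  · exact hz (hpa.trans h.dvd)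
  · exact hz hpc

theorem Comp.ne_one (h : Comp G a b c) : a ≠ 1 ∧ c ≠ 1 := by
  obtain ⟨x, hx1, hx⟩ := h.exA
  obtain ⟨y, hy1, hy⟩ := h.exC
  exact ⟨hx ▸ cidx_ne_one h.na hx1, hy ▸ cidx_ne_one h.na hy1⟩

theorem Comp.not_a_dvd_c (h : Comp G a b c) : ¬ a ∣ c := fun hd =>
  h.ne_one.1 (Nat.dvd_one.1 (h.coprime ▸ Nat.dvd_gcd dvd_rfl hd))

theorem Comp.not_c_dvd_a (h : Comp G a b c) : ¬ c ∣ a := fun hd =>
  h.ne_one.2 (Nat.dvd_one.1 (h.coprime ▸ Nat.dvd_gcd hd dvd_rfl))

theorem Comp.not_b_dvd_a (h : Comp G a b c) : ¬ b ∣ a := fun hd => h.neAB (Nat.dvd_antisymm h.dvd hd)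

theorem Comp.not_b_dvd_c (h : Comp G a b c) : ¬ b ∣ c := fun hd => h.not_a_dvd_c (h.dvd.trans hd)

theorem Comp.not_commute (h : Comp G a b c) {x y : G} (hx1 : x ≠ 1) (hx : cidx x = a) (hy1 : y ≠ 1)
    (hy : cidx y = c) : ¬ Commute x y :=
  not_commute_of_coprime h.na hx1 hy1 (by rw [hx, hy]; exact h.coprime)

theorem Comp.prime_pow_a (h : Comp G a b c) {x : G} (hx1 : x ≠ 1) (hx : cidx x = a) :
    ∃ k p : ℕ, p.Prime ∧ orderOf (x ^ k) = p ∧ x ^ k ≠ 1 ∧ cidx (x ^ k) = a := by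
  obtain ⟨k, p, hp, hk⟩ := exists_primary_power hx1
  have hne : x ^ k ≠ 1 := fun e => by rw [e, orderOf_one] at hk; exact hp.ne_one hk.symm
  refine ⟨k, p, hp, hk, hne, ?_⟩
  have hd := cidx_dvd (cent_le_pow x k)
  rw [hx] at hd
  rcases h.val _ hne with e | e | e <;> rw [e] at hd
  · exact e
  · exact absurd hd h.not_b_dvd_a
  · exact absurd hd h.not_c_dvd_a

theorem Comp.prime_pow_c (h : Comp G a b c) {x : G} (hx1 : x ≠ 1) (hx : cidx x = c) :
    ∃ k p : ℕ, p.Prime ∧ orderOf (x ^ k) = p ∧ x ^ k ≠ 1 ∧ cidx (x ^ k) = c := by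
  obtain ⟨k, p, hp, hk⟩ := exists_primary_power hx1
  have hne : x ^ k ≠ 1 := fun e => by rw [e, orderOf_one] at hk; exact hp.ne_one hk.symm
  refine ⟨k, p, hp, hk, hne, ?_⟩
  have hd := cidx_dvd (cent_le_pow x k)
  rw [hx] at hd
  rcases h.val _ hne with e | e | e <;> rw [e] at hd
  · exact absurd hd h.not_a_dvd_c
  · exact absurd hd h.not_b_dvd_c
  · exact e

theorem Comp.cent_le (h : Comp G a b c) {x y : G} (hxy : Commute x y)
    (ho : (orderOf x).Coprime (orderOf y)) (hx1 : x ≠ 1) (hx : cidx x = a) (hy : cidx y = b) :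
    Subgroup.centralizer ({y} : Set G) ≤ Subgroup.centralizer {x} := by
  have hl := cent_mul_le_left hxy ho
  have hr := cent_mul_le_right hxy ho
  have h1 := cidx_dvd hl
  have h2 := cidx_dvd hr
  rw [hx] at h1
  rw [hy] at h2
  rcases h.val _ (mul_ne_one_of_coprime hxy ho hx1) with e | e | e
  · exact absurd (e ▸ h2) h.not_b_dvd_a
  · exact (cent_eq hr (e.trans hy.symm)).ge.trans hl
  · exact absurd (e ▸ h1) h.not_a_dvd_c

/-- Every prime divisor of the order divides `a` or `c`. -/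
theorem Comp.covered (h : Comp G a b c) {p : ℕ} (hp : p.Prime) (hd : p ∣ Nat.card G) :
    p ∣ a ∨ p ∣ c := by
  by_contra hno
  push Not at hno
  haveI := Fact.mk hp
  obtain ⟨P⟩ : Nonempty (Sylow p G) := inferInstance
  obtain ⟨z, hzP, hz1, hzc, hz⟩ := exists_central_elt p hd P
  obtain ⟨x, hx1, hx⟩ := h.exA
  obtain ⟨k, q, hq, hqo, hu1, hu⟩ := h.prime_pow_a hx1 hx
  obtain ⟨y, hy1, hy⟩ := h.exC
  obtain ⟨g, hg⟩ := exists_cent_sylow P (x := x ^ k) (by rw [hu]; exact hno.1)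
  obtain ⟨g', hg'⟩ := exists_cent_sylow P (x := y) (by rw [hy]; exact hno.2)
  set u := g * x ^ k * g⁻¹ with hud
  set w := g' * y * g'⁻¹ with hwd
  have huo : orderOf u = q := (MulEquiv.orderOf_eq (MulAut.conj g) (x ^ k)).trans hqo
  have hu1' : u ≠ 1 := by rw [hud, ne_eq, conj_eq_one_iff]; exact hu1
  have hw1 : w ≠ 1 := by rw [hwd, ne_eq, conj_eq_one_iff]; exact hy1
  have hui : cidx u = a := (cidx_conj g _).trans hu
  have hwi : cidx w = c := (cidx_conj g' _).trans hy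
  have hzu : Commute z u := mem_cent.1 (hg hzP)
  have hzw : Commute z w := mem_cent.1 (hg' hzP)
  by_cases hqp : q = p
  · subst hqp
    have hle : Subgroup.zpowers u ≤ Subgroup.normalizer ((P : Subgroup G) : Set G) := by
      rw [Subgroup.zpowers_le, Subgroup.mem_normalizer_iff]
      intro v
      constructor <;> intro hv
      · rw [← (mem_cent.1 (hg hv)).eq, mul_inv_cancel_right]; exact hv
      · have e := (mem_cent.1 (hg hv)).eq
        have : v = u * v * u⁻¹ := by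
          apply mul_left_cancel (a := u)
          calc u * v = u * v * u⁻¹ * u := by group
            _ = u * (u * v * u⁻¹) := e
        rw [this]; exact hv
    have hPu : IsPGroup q ↥((P : Subgroup G) ⊔ Subgroup.zpowers u) :=
      P.isPGroup'.to_sup_of_normal_left' (IsPGroup.of_card (n := 1) (by rw [Nat.card_zpowers, huo, pow_one])) hle
    have huP : u ∈ (P : Subgroup G) := by
      have := P.3 hPu le_sup_left
      exact this ▸ Subgroup.mem_sup_right (Subgroup.mem_zpowers u)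
    exact h.not_commute hu1' hui hw1 hwi (mem_cent.1 (hg' huP))
  · rcases h.val z hz1 with e | e | e
    · exact h.not_commute hz1 e hw1 hwi hzw
    · have ho : (orderOf u).Coprime (orderOf z) := by
        obtain ⟨n, hn⟩ := IsPGroup.iff_orderOf.1 P.isPGroup' ⟨z, hzP⟩
        rw [Subgroup.orderOf_mk] at hn
        rw [huo, hn]
        exact ((Nat.coprime_primes hq hp).2 hqp).pow_right n
      exact h.not_commute hu1' hui hw1 hwi
        (mem_cent.1 (h.cent_le hzu.symm ho hu1' hui e (mem_cent.2 hzw.symm))).symm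
    · exact h.not_commute hu1' hui hz1 e hzu.symm

theorem Comp.primary_ne_a (h : Comp G a b c) {p k : ℕ} (hp : p.Prime) (hpa : p ∣ a) {y : G}
    (hy1 : y ≠ 1) (hyo : orderOf y = p ^ k) : cidx y ≠ a := by
  intro hy
  haveI := Fact.mk hp
  obtain ⟨w, hw1, hw⟩ := h.exC
  obtain ⟨P, hP⟩ := (IsPGroup.of_card (p := p) (n := k) (by rw [Nat.card_zpowers, hyo]) :
    IsPGroup p (Subgroup.zpowers y)).exists_le_sylow
  have hnd : ¬ p ∣ cidx w := fun hd => hp.ne_one (Nat.dvd_one.1 (h.coprime ▸ Nat.dvd_gcd hpa (hw ▸ hd)))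
  obtain ⟨g, hg⟩ := exists_cent_sylow P hnd
  exact h.not_commute hy1 hy (by rwa [ne_eq, conj_eq_one_iff]) ((cidx_conj g w).trans hw)
    (mem_cent.1 (hg (hP (Subgroup.mem_zpowers y))))

theorem Comp.primary_ne_c (h : Comp G a b c) {p k : ℕ} (hp : p.Prime) (hpc : p ∣ c) {y : G}
    (hy1 : y ≠ 1) (hyo : orderOf y = p ^ k) : cidx y ≠ c := by
  intro hy
  haveI := Fact.mk hp
  obtain ⟨u, hu1, hu⟩ := h.exA
  obtain ⟨P, hP⟩ := (IsPGroup.of_card (p := p) (n := k) (by rw [Nat.card_zpowers, hyo]) :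
    IsPGroup p (Subgroup.zpowers y)).exists_le_sylow
  have hnd : ¬ p ∣ cidx u := fun hd => hp.ne_one (Nat.dvd_one.1 (h.coprime ▸ Nat.dvd_gcd (hu ▸ hd) hpc))
  obtain ⟨g, hg⟩ := exists_cent_sylow P hnd
  exact h.not_commute (by rwa [ne_eq, conj_eq_one_iff]) ((cidx_conj g u).trans hu) hy1 hy
    (mem_cent.1 (hg (hP (Subgroup.mem_zpowers y)))).symm

theorem Comp.coprime_cent_a (h : Comp G a b c) {x : G} (hx1 : x ≠ 1) (hx : cidx x = a) :
    (ccard x).Coprime a := by
  refine Nat.coprime_of_dvd fun q hq hqC hqa => ?_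
  haveI := Fact.mk hq
  obtain ⟨⟨y, hyC⟩, hyo⟩ := exists_prime_orderOf_dvd_card' q hqC
  rw [Subgroup.orderOf_mk] at hyo
  have hy1 : y ≠ 1 := fun e => by rw [e, orderOf_one] at hyo; exact hq.ne_one hyo.symm
  obtain ⟨k, p, hp, hpo, hu1, hu⟩ := h.prime_pow_a hx1 hx
  have huy : Commute (x ^ k) y := (mem_cent.1 hyC).symm.pow_left k
  rcases h.val y hy1 with e | e | e
  · exact h.primary_ne_a hq hqa hy1 (k := 1) (by rw [pow_one]; exact hyo) e
  · have hpq : p ≠ q := by
      rintro rfl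
      exact h.primary_ne_a hq hqa hu1 (k := 1) (by rw [pow_one]; exact hpo) hu
    have hle := h.cent_le huy (by rw [hpo, hyo]; exact (Nat.coprime_primes hp hq).2 hpq) hu1 hu e
    obtain ⟨Q, hQ⟩ := (IsPGroup.of_card (p := q) (n := 1) (by rw [Nat.card_zpowers, hyo, pow_one]) :
      IsPGroup q (Subgroup.zpowers y)).exists_le_sylow
    obtain ⟨z, hzQ, hz1, hzc, hz⟩ := exists_central_elt q (hqa.trans h.dvd_card.1) Q
    rcases h.val z hz1 with ez | ez | ez
    · exact hz (ez ▸ hqa)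
    · exact hz (ez ▸ hqa.trans h.dvd)
    · exact h.not_commute hu1 hu hz1 ez
        (mem_cent.1 (hle (mem_cent.2 (mem_cent.1 (hzc (hQ (Subgroup.mem_zpowers y)))).symm))).symm
  · exact h.not_commute hu1 hu hy1 e huy

theorem Comp.coprime_cent_c (h : Comp G a b c) {x : G} (hx1 : x ≠ 1) (hx : cidx x = c) :
    (ccard x).Coprime c := by
  refine Nat.coprime_of_dvd fun p hp hpC hpc => ?_
  haveI := Fact.mk hp
  obtain ⟨⟨y, hyC⟩, hyo⟩ := exists_prime_orderOf_dvd_card' p hpC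
  rw [Subgroup.orderOf_mk] at hyo
  have hy1 : y ≠ 1 := fun e => by rw [e, orderOf_one] at hyo; exact hp.ne_one hyo.symm
  obtain ⟨k, r, hr, hro, hw1, hw⟩ := h.prime_pow_c hx1 hx
  have hwy : Commute (x ^ k) y := (mem_cent.1 hyC).symm.pow_left k
  rcases h.val y hy1 with e | e | e
  · exact h.not_commute hy1 e hw1 hw hwy.symm
  · have hpr : r ≠ p := by
      rintro rfl
      exact h.primary_ne_c hp hpc hw1 (k := 1) (by rw [pow_one]; exact hro) hw
    have ho : (orderOf (x ^ k)).Coprime (orderOf y) := by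
      rw [hro, hyo]; exact (Nat.coprime_primes hr hp).2 hpr
    have hl := cent_mul_le_left hwy ho
    have hrt := cent_mul_le_right hwy ho
    have h1 := cidx_dvd hl
    have h2 := cidx_dvd hrt
    rw [hw] at h1
    rw [e] at h2
    rcases h.val _ (mul_ne_one_of_coprime hwy ho hw1) with ez | ez | ez
    · exact h.not_c_dvd_a (ez ▸ h1)
    · obtain ⟨P, hP⟩ := (IsPGroup.of_card (p := p) (n := 1) (by rw [Nat.card_zpowers, hyo, pow_one]) :
        IsPGroup p (Subgroup.zpowers y)).exists_le_sylow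
      obtain ⟨z, hzP, hz1, hzc, hz⟩ := exists_central_elt p (hpc.trans h.dvd_card.2) P
      have hzy : z ∈ Subgroup.centralizer ({y} : Set G) :=
        mem_cent.2 (mem_cent.1 (hzc (hP (Subgroup.mem_zpowers y)))).symm
      rcases h.val z hz1 with e' | e' | e'
      · exact h.not_commute hz1 e' hw1 hw
          (mem_cent.1 (hl ((cent_eq hrt (ez.trans e.symm)).ge hzy)))
      · exact hz (e' ▸ (hpc.trans (ez ▸ h1)))
      · exact hz (e' ▸ hpc)
    · exact h.not_b_dvd_c (ez ▸ h2)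
  · exact h.primary_ne_c hp hpc hy1 (k := 1) (by rw [pow_one]; exact hyo) e

theorem Comp.orders (h : Comp G a b c) :
    (∀ x : G, x ≠ 1 → cidx x = a → ccard x = c) ∧ (∀ x : G, x ≠ 1 → cidx x = c → ccard x = a) ∧
      Nat.card G = a * c := by
  have main : Nat.card G = a * c := by
    obtain ⟨x, hx1, hx⟩ := h.exA
    obtain ⟨y, hy1, hy⟩ := h.exC
    have hm := ccard_mul_cidx x
    have hm' := ccard_mul_cidx y
    rw [hx] at hm
    rw [hy] at hm'
    obtain ⟨k, hk⟩ : c ∣ ccard x := h.coprime.symm.dvd_of_dvd_mul_right (hm.symm ▸ h.dvd_card.2)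
    obtain ⟨l, hl⟩ : a ∣ ccard y := h.coprime.dvd_of_dvd_mul_right (hm'.symm ▸ h.dvd_card.1)
    have hkl : k = l := by
      have hac : 0 < a * c := Nat.pos_of_ne_zero (mul_ne_zero
        (hx ▸ Subgroup.index_ne_zero_of_finite) (hy ▸ Subgroup.index_ne_zero_of_finite))
      apply Nat.eq_of_mul_eq_mul_left hac
      have := hm.trans hm'.symm
      rw [hk, hl] at this
      linarith [this]
    have hk1 : k = 1 := by
      by_contra hk1
      obtain ⟨p, hp, hpk⟩ := Nat.exists_prime_and_dvd hk1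
      have hpG : p ∣ Nat.card G := hm ▸ (hk ▸ (hpk.mul_left c)).mul_right a
      rcases h.covered hp hpG with hpa | hpc
      · exact hp.ne_one (Nat.dvd_one.1 ((h.coprime_cent_a hx1 hx) ▸ Nat.dvd_gcd (hk ▸ hpk.mul_left c) hpa))
      · exact hp.ne_one (Nat.dvd_one.1 ((h.coprime_cent_c hy1 hy) ▸
          Nat.dvd_gcd (hl ▸ (hkl ▸ hpk).mul_left a) hpc))
    rw [← hm, hk, hk1, mul_one, mul_comm]
  refine ⟨fun x hx1 hx => ?_, fun y hy1 hy => ?_, main⟩
  · have hm := ccard_mul_cidx x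
    rw [hx, main, mul_comm a c] at hm
    exact Nat.eq_of_mul_eq_mul_right (Nat.pos_of_ne_zero (hx ▸ Subgroup.index_ne_zero_of_finite)) hm
  · have hm := ccard_mul_cidx y
    rw [hy, main] at hm
    exact Nat.eq_of_mul_eq_mul_right (Nat.pos_of_ne_zero (hy ▸ Subgroup.index_ne_zero_of_finite)) hm

/-- An element of order dividing `a` has index `c`. -/
theorem Comp.cidx_of_dvd_a (h : Comp G a b c) {y : G} (hy1 : y ≠ 1) (ho : orderOf y ∣ a) :
    cidx y = c := by
  obtain ⟨hA, -, hcard⟩ := h.orders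
  have hself : orderOf y ∣ ccard y := by
    have := orderOf_dvd_natCard (⟨y, self_mem_cent y⟩ : Subgroup.centralizer ({y} : Set G))
    rwa [Subgroup.orderOf_mk] at this
  have hne : ¬ orderOf y ∣ c := fun hd =>
    hy1 (orderOf_eq_one_iff.1 (Nat.dvd_one.1 (h.coprime ▸ Nat.dvd_gcd ho hd)))
  rcases h.val y hy1 with e | e | e
  · exact absurd (hA y hy1 e ▸ hself) hne
  · exfalso
    obtain ⟨j, hj⟩ := h.dvd
    have hm := ccard_mul_cidx y
    rw [e, hcard, hj] at hm
    have hjc : ccard y * j = c := by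
      have ha0 : 0 < a := Nat.pos_of_ne_zero fun e0 => by
        rw [e0, Nat.zero_mul] at hcard; exact Nat.card_pos.ne' hcard
      apply Nat.eq_of_mul_eq_mul_left ha0
      rw [← hm]; ring
    exact hne (hself.trans (Dvd.intro j hjc))
  · exact e

/-- The self-centralizing abelian subgroup of order `a`. -/
theorem Comp.exists_H (h : Comp G a b c) :
    ∃ H : Subgroup G, Nat.card H = a ∧ (∀ y ∈ H, y ≠ 1 → ∀ v, v ∈ H ↔ Commute v y) ∧
      ∃ (q : ℕ) (_ : Fact q.Prime) (Q : Sylow q G), q ∣ a ∧ (Q : Subgroup G) ≤ H := by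
  obtain ⟨-, hC, hcard⟩ := h.orders
  obtain ⟨q, hq, hqa⟩ := Nat.exists_prime_and_dvd h.ne_one.1
  haveI := Fact.mk hq
  obtain ⟨Q⟩ : Nonempty (Sylow q G) := inferInstance
  obtain ⟨w, hwQ, hw1, hwc, hw⟩ := exists_central_elt q (hqa.trans h.dvd_card.1) Q
  have hwi : cidx w = c := by
    rcases h.val w hw1 with e | e | e
    · exact absurd (e ▸ hqa) hw
    · exact absurd (e ▸ hqa.trans h.dvd) hw
    · exact e
  set H := Subgroup.centralizer ({w} : Set G) with hH
  have hHa : Nat.card H = a := hC w hw1 hwi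
  have hidx : ∀ y ∈ H, y ≠ 1 → cidx y = c := fun y hy hy1 => h.cidx_of_dvd_a hy1 (by
    have := orderOf_dvd_natCard (⟨y, hy⟩ : H)
    rwa [Subgroup.orderOf_mk, hHa] at this)
  have hsame : ∀ x ∈ H, ∀ y ∈ H, x ≠ 1 → y ≠ 1 → Commute x y → (orderOf x).Coprime (orderOf y) →
      Subgroup.centralizer ({y} : Set G) = Subgroup.centralizer {x} := by
    intro x hx y hy hx1 hy1 hxy ho
    have hi := hidx _ (mul_mem hx hy) (mul_ne_one_of_coprime hxy ho hx1)
    rw [← cent_eq (cent_mul_le_right hxy ho) (hi.trans (hidx y hy hy1).symm),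
      ← cent_eq (cent_mul_le_left hxy ho) (hi.trans (hidx x hx hx1).symm)]
  obtain ⟨n, hn⟩ := IsPGroup.iff_orderOf.1 Q.isPGroup' ⟨w, hwQ⟩
  rw [Subgroup.orderOf_mk] at hn
  have hother : ∀ (p k : ℕ) (v : G), p.Prime → p ≠ q → v ∈ H → v ≠ 1 → orderOf v = p ^ k →
      Subgroup.centralizer ({v} : Set G) = H := fun p k v hp hpq hv hv1 hvo =>
    hsame w (self_mem_cent w) v hv hw1 hv1 (mem_cent.1 hv).symm (by
      rw [hn, hvo]; exact Nat.Coprime.pow _ _ ((Nat.coprime_primes hq hp).2 hpq.symm))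
  obtain ⟨r, hr, hra, hrq⟩ : ∃ r : ℕ, r.Prime ∧ r ∣ a ∧ r ≠ q := by
    by_contra hno
    push Not at hno
    obtain ⟨x, hx1, hx⟩ := h.exA
    refine cidx_not_primePow h.na hx1 hq (k := a.primeFactorsList.length) ?_
    rw [hx]
    exact Nat.eq_prime_pow_of_unique_prime_dvd (hx ▸ Subgroup.index_ne_zero_of_finite)
      fun {d} hd hda => hno d hd hda
  haveI := Fact.mk hr
  obtain ⟨⟨v₀, hv₀⟩, hv₀o⟩ := exists_prime_orderOf_dvd_card' (G := H) r (hHa ▸ hra)
  rw [Subgroup.orderOf_mk] at hv₀o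
  have hv₀1 : v₀ ≠ 1 := fun e => by rw [e, orderOf_one] at hv₀o; exact hr.ne_one hv₀o.symm
  have hv₀C := hother r 1 v₀ hr hrq hv₀ hv₀1 (by rw [pow_one]; exact hv₀o)
  have hprim : ∀ (p k : ℕ) (v : G), p.Prime → v ∈ H → v ≠ 1 → orderOf v = p ^ k →
      Subgroup.centralizer ({v} : Set G) = H := by
    intro p k v hp hv hv1 hvo
    by_cases hpq : p = q
    · subst hpq
      rw [← hv₀C]
      exact hsame v₀ hv₀ v hv hv₀1 hv1 (mem_cent.1 (hv₀C.symm ▸ hv : v ∈ Subgroup.centralizer ({v₀} : Set G))).symm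
        (by rw [hv₀o, hvo]; exact ((Nat.coprime_primes hr hp).2 hrq).pow_right k)
    · exact hother p k v hp hpq hv hv1 hvo
  have hab : Subgroup.center H = ⊤ := by
    refine eq_top_of_primary _ fun p k x hp hxo => Subgroup.mem_center_iff.2 fun y => Subtype.ext ?_
    rw [← Subgroup.orderOf_coe] at hxo
    by_cases hx1 : (x : G) = 1
    · simp [show x = 1 from Subtype.ext hx1]
    exact mem_cent.1 ((hprim p k x hp x.2 hx1 hxo).symm ▸ y.2 : (y : G) ∈ Subgroup.centralizer ({(x : G)} : Set G))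
  refine ⟨H, hHa, fun y hy hy1 v => ?_, q, inferInstance, Q, hqa, hwc⟩
  have hyc : (⟨y, hy⟩ : H) ∈ Subgroup.center H := by rw [hab]; exact Subgroup.mem_top _
  have hle : H ≤ Subgroup.centralizer ({y} : Set G) := fun t ht => mem_cent.2
    (show t * y = y * t from congrArg Subtype.val (Subgroup.mem_center_iff.1 hyc ⟨t, ht⟩))
  rw [Subgroup.eq_of_le_of_card_ge hle (le_of_eq ((hC y hy1 (hidx y hy hy1)).trans hHa.symm))]
  exact mem_cent

/-- There are no comparable indices. -/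
theorem Comp.false (h : Comp G a b c) : False := by
  classical
  haveI := Fintype.ofFinite G
  obtain ⟨hA, hC, hcard⟩ := h.orders
  obtain ⟨H, hHa, hcent, q, _, Q, hqa, hQH⟩ := h.exists_H
  haveI := Fintype.ofFinite H
  have hHidx : ∀ y ∈ H, y ≠ 1 → cidx y = c := fun y hy hy1 => h.cidx_of_dvd_a hy1 (by
    have := orderOf_dvd_natCard (⟨y, hy⟩ : H)
    rwa [Subgroup.orderOf_mk, hHa] at this)
  haveI hHc : IsMulCommutative H := ⟨⟨fun x y => by
    by_cases hy : y = 1
    · simp [hy]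
    exact Subtype.ext ((hcent y y.2 (fun e => hy (Subtype.ext e)) x).1 x.2).eq⟩⟩
  have hH1 : H ≠ ⊥ := fun e => by
    rw [e, Subgroup.card_bot] at hHa; exact h.ne_one.1 hHa.symm
  set N := Subgroup.normalizer (H : Set G) with hN
  -- no element of index `a` normalises `H`
  have hNa : ∀ v : G, v ≠ 1 → cidx v = a → v ∉ N := by
    intro v hv1 hv hvN
    have hmem : ∀ y : H, v⁻¹ * ((y : G) * v * (y : G)⁻¹) ∈ H := fun y => by
      rw [show v⁻¹ * ((y : G) * v * (y : G)⁻¹) = (v⁻¹ * y * v) * (y : G)⁻¹ by group]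
      refine mul_mem ?_ (inv_mem y.2)
      simpa using (Subgroup.mem_normalizer_iff.1 (inv_mem hvN) y).1 y.2
    have hinj : Function.Injective (fun y : H => (⟨_, hmem y⟩ : H)) := by
      intro x y hxy
      have e : (x : G) * v * (x : G)⁻¹ = (y : G) * v * (y : G)⁻¹ := mul_left_cancel (congrArg Subtype.val hxy)
      by_contra hne
      have h1 : (y : G)⁻¹ * x ≠ 1 := fun e' => hne (Subtype.ext (inv_mul_eq_one.1 e').symm)
      have hm : (y : G)⁻¹ * x ∈ H := mul_mem (inv_mem y.2) x.2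
      refine h.not_commute hv1 hv h1 (hHidx _ hm h1) ?_
      calc v * ((y : G)⁻¹ * x) = (y : G)⁻¹ * ((y : G) * v * (y : G)⁻¹) * x := by group
        _ = (y : G)⁻¹ * ((x : G) * v * (x : G)⁻¹) * x := by rw [e]
        _ = (y : G)⁻¹ * x * v := by group
    obtain ⟨⟨y, hy⟩, hy1⟩ := Subgroup.ne_bot_iff_exists_ne_one.1 hH1
    have hy1' : y ≠ 1 := fun e => hy1 (Subtype.ext e)
    have hz : v⁻¹ * y * v ∈ H := by simpa using (Subgroup.mem_normalizer_iff.1 (inv_mem hvN) y).1 hy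
    obtain ⟨x, hx⟩ := (Finite.injective_iff_surjective.1 hinj) ⟨_, hz⟩
    have ex : (x : G) * v * (x : G)⁻¹ = y * v := by
      have := mul_left_cancel ((congrArg Subtype.val hx : v⁻¹ * ((x : G) * v * (x : G)⁻¹) = v⁻¹ * y * v).trans (mul_assoc _ _ _))
      exact this
    have hlt := ccard_mul_lt h.na hy1' hv1 (by rw [hHidx y hy hy1', hv]; exact h.coprime.symm)
    rw [← ex, ccard_eq_of_cidx_eq (cidx_conj (x : G) v)] at hlt
    exact hlt.false
  -- an element of index `a`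
  obtain ⟨u, hu1, hu⟩ := h.exA
  have huH : u ∉ H := fun hm => h.neAC (hu.symm.trans (hHidx u hm hu1))
  have huconj : ∀ x : G, x * u * x⁻¹ ∉ H := fun x hm => by
    have := hHidx _ hm (by rwa [ne_eq, conj_eq_one_iff])
    rw [cidx_conj, hu] at this
    exact h.neAC this
  have hcopr : ∀ y ∈ H, y ≠ 1 → (cidx u).Coprime (cidx y) := fun y hy hy1 => by
    rw [hu, hHidx y hy hy1]; exact h.coprime
  have hd1 : ∀ y ∈ H, y ≠ 1 → u * y ≠ 1 := fun y hy hy1 e =>
    huH ((eq_inv_of_mul_eq_one_left e) ▸ inv_mem hy)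
  have hdb : ∀ y ∈ H, y ≠ 1 → cidx (u * y) = b := by
    intro y hy hy1
    have h1 := ccard_mul_lt h.na hu1 hy1 (hcopr y hy hy1)
    have h2 := ccard_mul_lt h.na hy1 hu1 (hcopr y hy hy1).symm
    rw [ccard_eq_of_cidx_eq (show cidx (y * u) = cidx (u * y) by
      rw [← cidx_conj u (y * u)]; congr 1; group)] at h2
    rcases h.val _ (hd1 y hy hy1) with e | e | e
    · rw [hA _ (hd1 y hy hy1) e, hA u hu1 hu] at h2; exact absurd h2 (lt_irrefl _)
    · exact e
    · rw [hC _ (hd1 y hy hy1) e, hC y hy1 (hHidx y hy hy1)] at h1; exact absurd h1 (lt_irrefl _)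
  have hdconj : ∀ y ∈ H, y ≠ 1 → ∀ x : G, x * (u * y) * x⁻¹ ∉ H := by
    intro y hy hy1 x hm
    have := hHidx _ hm (by rw [ne_eq, conj_eq_one_iff]; exact hd1 y hy hy1)
    rw [cidx_conj, hdb y hy hy1] at this
    exact h.neBC this
  have hconj : ∀ y ∈ H, y ≠ 1 → ∀ y' ∈ H, y' ≠ 1 → IsConj (u * y) (u * y') :=
    fun y hy hy1 y' hy' hy1' => isConj_mul hcent huconj hdconj
      (fun z hz hz1 χ hχ => char_mul_of_coprime (hcopr z hz hz1) hχ) hy hy1 hy' hy1'
  -- `N ≠ H`
  have hNH : ∃ n ∈ N, n ∉ H := by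
    by_contra hno
    push Not at hno
    have hle : Subgroup.normalizer ((Q : Subgroup G) : Set G) ≤
        Subgroup.centralizer ((Q : Subgroup G) : Set G) := by
      intro n hn
      obtain ⟨z, hzQ, hz1, -, -⟩ := exists_central_elt q (hqa.trans h.dvd_card.1) Q
      have hnH : n ∈ H := hno n (ti hcent (hQH hzQ) hz1 (hQH ((Subgroup.mem_normalizer_iff.1 hn z).1 hzQ)))
      rw [Subgroup.mem_centralizer_iff]
      intro t ht
      exact congrArg Subtype.val (IsMulCommutative.is_comm.comm (⟨t, hQH ht⟩ : H) ⟨n, hnH⟩)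
    have hcompl := MonoidHom.ker_transferSylow_isComplement' Q hle
    rcases Subgroup.Normal.eq_bot_or_eq_top
      (MonoidHom.normal_ker (MonoidHom.transferSylow Q hle)) with e | e
    · rw [e, Subgroup.isComplement'_bot_left] at hcompl
      haveI : Nontrivial G := IsSimpleGroup.toNontrivial
      have hG : IsPGroup q G := by
        have := Q.isPGroup'
        rw [hcompl] at this
        exact this.of_equiv Subgroup.topEquiv
      haveI := hG.center_nontrivial
      exact (Subgroup.nontrivial_iff_ne_bot _).1 this (center_eq_bot h.na)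
    · rw [e, Subgroup.isComplement'_top_left] at hcompl
      exact Sylow.ne_bot_of_dvd_card Q (hqa.trans h.dvd_card.1) hcompl
  obtain ⟨n₀, hn₀N, hn₀H⟩ := hNH
  -- the complement
  set E : Subgroup G := Subgroup.centralizer ({u} : Set G) ⊓ N with hE
  have hE1 : E ≠ ⊥ := by
    obtain ⟨y₀, hy₀, hy₀1⟩ : ∃ y ∈ H, y ≠ 1 := by
      obtain ⟨⟨y, hy⟩, hy1⟩ := Subgroup.ne_bot_iff_exists_ne_one.1 hH1
      exact ⟨y, hy, fun e => hy1 (Subtype.ext e)⟩
    obtain ⟨k, hk, m, hm, hkm⟩ := exists_mul_of_coprime (Subgroup.centralizer ({u} : Set G))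
      (Subgroup.centralizer ({y₀} : Set G)) (hcopr y₀ hy₀ hy₀1) n₀
    have hmH : m ∈ H := (hcent y₀ hy₀ hy₀1 m).2 (mem_cent.1 hm)
    have hkN : k ∈ N := by
      rw [show k = m⁻¹ * n₀ by rw [hkm]; group]
      exact mul_mem (inv_mem (Subgroup.le_normalizer hmH)) hn₀N
    intro e
    have : k ∈ E := ⟨hk, hkN⟩
    rw [e, Subgroup.mem_bot] at this
    exact hn₀H (by rw [hkm, this, mul_one]; exact hmH)
  have hEc : ∀ t ∈ E, t ≠ 1 → cidx t ≠ c := by
    intro t ht ht1 e
    have h1 := orderOf_dvd_natCard (⟨t, ht.1⟩ : Subgroup.centralizer ({u} : Set G))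
    rw [Subgroup.orderOf_mk, show Nat.card (Subgroup.centralizer ({u} : Set G)) = c from hA u hu1 hu] at h1
    have h2 := orderOf_dvd_natCard (⟨t, self_mem_cent t⟩ : Subgroup.centralizer ({t} : Set G))
    rw [Subgroup.orderOf_mk, show Nat.card (Subgroup.centralizer ({t} : Set G)) = a from hC t ht1 e] at h2
    exact ht1 (orderOf_eq_one_iff.1 (Nat.dvd_one.1 (h.coprime ▸ Nat.dvd_gcd h2 h1)))
  have hfpf : ∀ t ∈ E, t ≠ 1 → H ⊓ Subgroup.centralizer {t} = ⊥ := by
    intro t ht ht1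
    rw [eq_bot_iff]
    rintro y ⟨hy, hyt⟩
    rw [Subgroup.mem_bot]
    by_contra hy1
    have htH : t ∈ H := (hcent y hy hy1 t).2 (mem_cent.1 hyt).symm
    exact hEc t ht ht1 (hHidx t htH ht1)
  obtain ⟨ε, hεE, hε1, hεc⟩ := center_ne_bot hH1 (inf_le_right : E ≤ N) hfpf hE1
  have hεb : cidx ε = b := by
    rcases h.val ε hε1 with e | e | e
    · exact absurd hεE.2 (hNa ε hε1 e)
    · exact e
    · exact absurd e (hEc ε hεE hε1)
  obtain ⟨⟨h₀, hh₀⟩, hh₀1'⟩ := Subgroup.ne_bot_iff_exists_ne_one.1 hH1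
  have hh₀1 : h₀ ≠ 1 := fun e => hh₀1' (Subtype.ext e)
  have hf : Nat.card E < ccard (u * h₀) := by
    rw [ccard_eq_of_cidx_eq ((hdb h₀ hh₀ hh₀1).trans hεb.symm)]
    refine Set.ncard_lt_ncard (s := (E : Set G)) ?_ (Set.toFinite _)
    refine ⟨fun t ht => mem_cent.2 (hεc t ht), fun hsub => hNa u hu1 hu ?_⟩
    exact (hsub (mem_cent.2 (mem_cent.1 hεE.1).symm)).2
  -- counting
  set d := u * h₀ with hd
  let H1 : Type u := {y : H // y ≠ 1}
  have hx : ∀ y : H1, ∃ x : G, x * (u * ((y.1 : H) : G)) * x⁻¹ = d := fun y =>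
    isConj_iff.1 (hconj _ y.1.2 (fun e => y.2 (Subtype.ext e)) h₀ hh₀ hh₀1)
  choose X hX using hx
  let Φ : Subgroup.centralizer ({d} : Set G) × H1 → {z : G // IsConj u z} := fun p =>
    ⟨((p.1 : G) * X p.2) * u * ((p.1 : G) * X p.2)⁻¹, isConj_iff.2 ⟨_, rfl⟩⟩
  have hfib : ∀ z, Nat.card {p // Φ p = z} ≤ Nat.card E := by
    intro z
    rcases isEmpty_or_nonempty {p // Φ p = z} with he | ⟨⟨⟨g, y⟩, hgy⟩⟩
    · simp
    have key : ∀ (g' : Subgroup.centralizer ({d} : Set G)) (y' : H1), Φ (g', y') = z →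
        ((g : G) * X y)⁻¹ * ((g' : G) * X y') ∈ E ∧
        ((g : G) * X y)⁻¹ * ((g' : G) * X y') * ((y'.1 : H) : G) *
          (((g : G) * X y)⁻¹ * ((g' : G) * X y'))⁻¹ = ((y.1 : H) : G) := by
      intro g' y' hg'
      set s := (g : G) * X y with hs
      set s' := (g' : G) * X y' with hs'
      have e1 : s' * u * s'⁻¹ = s * u * s⁻¹ := congrArg Subtype.val (hg'.trans hgy.symm)
      have hd0 : ∀ (g : Subgroup.centralizer ({d} : Set G)) (y : H1),
          ((g : G) * X y) * (u * ((y.1 : H) : G)) * ((g : G) * X y)⁻¹ = d := by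
        intro g y
        calc _ = (g : G) * (X y * (u * ((y.1 : H) : G)) * (X y)⁻¹) * (g : G)⁻¹ := by group
          _ = d := by rw [hX, (mem_cent.1 g.2).eq, mul_inv_cancel_right]
      have e2 : s' * ((y'.1 : H) : G) * s'⁻¹ = s * ((y.1 : H) : G) * s⁻¹ := by
        refine mul_left_cancel (a := s' * u * s'⁻¹) ?_
        calc s' * u * s'⁻¹ * (s' * ((y'.1 : H) : G) * s'⁻¹) = s' * (u * ((y'.1 : H) : G)) * s'⁻¹ := by group
          _ = d := hd0 g' y'
          _ = s * (u * ((y.1 : H) : G)) * s⁻¹ := (hd0 g y).symm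
          _ = s * u * s⁻¹ * (s * ((y.1 : H) : G) * s⁻¹) := by group
          _ = _ := by rw [e1]
      have e3 : (s⁻¹ * s') * ((y'.1 : H) : G) * (s⁻¹ * s')⁻¹ = ((y.1 : H) : G) := by
        calc _ = s⁻¹ * (s' * ((y'.1 : H) : G) * s'⁻¹) * s := by group
          _ = _ := by rw [e2]; group
      refine ⟨⟨mem_cent.2 ?_, ti hcent y'.1.2 (fun e => y'.2 (Subtype.ext e)) (e3 ▸ y.1.2)⟩, e3⟩
      have e4 : (s⁻¹ * s') * u * (s⁻¹ * s')⁻¹ = u := by
        calc _ = s⁻¹ * (s' * u * s'⁻¹) * s := by group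
          _ = _ := by rw [e1]; group
      exact mul_inv_eq_iff_eq_mul.1 e4
    refine Nat.card_le_card_of_injective
      (fun p => (⟨_, (key p.1.1 p.1.2 p.2).1⟩ : E)) ?_
    rintro ⟨⟨g1, y1⟩, h1⟩ ⟨⟨g2, y2⟩, h2⟩ heq
    have et : ((g : G) * X y)⁻¹ * ((g1 : G) * X y1) = ((g : G) * X y)⁻¹ * ((g2 : G) * X y2) :=
      congrArg Subtype.val heq
    have k1 := (key g1 y1 h1).2
    have k2 := (key g2 y2 h2).2
    rw [et] at k1
    have ey : y1 = y2 := Subtype.ext (Subtype.ext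
      (mul_left_cancel (mul_right_cancel (k1.trans k2.symm))))
    subst ey
    have eg : g1 = g2 := Subtype.ext (mul_right_cancel (mul_left_cancel et))
    subst eg
    rfl
  haveI : Fintype {z : G // IsConj u z} := Fintype.ofFinite _
  haveI : Fintype (Subgroup.centralizer ({d} : Set G) × H1) := Fintype.ofFinite _
  have hcount : Nat.card (Subgroup.centralizer ({d} : Set G) × H1) ≤
      Nat.card {z : G // IsConj u z} * Nat.card E := by
    rw [Nat.card_congr (Equiv.sigmaFiberEquiv Φ).symm, Nat.card_sigma]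
    refine (Finset.sum_le_card_nsmul _ _ (Nat.card E) fun z _ => hfib z).trans ?_
    simp [Nat.card_eq_fintype_card]
  rw [Nat.card_prod, card_conjClass_eq_index, show (Subgroup.centralizer ({u} : Set G)).index = a from hu,
    show Nat.card (Subgroup.centralizer ({d} : Set G)) = ccard d from rfl] at hcount
  have hH1card : Nat.card H1 + 1 = a := by
    rw [← hHa, ← Nat.card_congr (Equiv.optionSubtypeNe (1 : H)), Finite.card_option]
  set m := Nat.card H1 with hm
  set e := Nat.card E with he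
  have hle : m ≤ e := by
    have h3 : (e + 1) * m ≤ ccard d * m := Nat.mul_le_mul_right m hf
    have h4 := h3.trans hcount
    rw [← hH1card, Nat.add_mul, one_mul, Nat.add_mul, one_mul, mul_comm m e] at h4
    omega
  -- `E` is transitive on the nontrivial elements of `H`
  have hact : ∀ t : E, (t : G) * h₀ * (t : G)⁻¹ ∈ H := fun t =>
    (Subgroup.mem_normalizer_iff.1 t.2.2 h₀).1 hh₀
  let ψ : E → H1 := fun t => ⟨⟨_, hact t⟩, fun e' => hh₀1 (conj_eq_one_iff.1 (congrArg Subtype.val e'))⟩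
  have hψ : Function.Injective ψ := by
    intro s t hst
    have e' : (s : G) * h₀ * (s : G)⁻¹ = (t : G) * h₀ * (t : G)⁻¹ := congrArg (fun z : H1 => ((z.1 : H) : G)) hst
    by_contra hne
    have hk : (t : G)⁻¹ * s ∈ E := mul_mem (inv_mem t.2) s.2
    have hk1 : (t : G)⁻¹ * s ≠ 1 := fun e1 => hne (Subtype.ext (inv_mul_eq_one.1 e1).symm)
    have hmem : h₀ ∈ H ⊓ Subgroup.centralizer {(t : G)⁻¹ * s} := by
      refine ⟨hh₀, mem_cent.2 (Commute.symm ?_)⟩
      show (t : G)⁻¹ * s * h₀ = h₀ * ((t : G)⁻¹ * s)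
      calc (t : G)⁻¹ * s * h₀ = (t : G)⁻¹ * ((s : G) * h₀ * (s : G)⁻¹) * s := by group
        _ = (t : G)⁻¹ * ((t : G) * h₀ * (t : G)⁻¹) * s := by rw [e']
        _ = h₀ * ((t : G)⁻¹ * s) := by group
    rw [hfpf _ hk hk1, Subgroup.mem_bot] at hmem
    exact hh₀1 hmem
  have hsurj : Function.Surjective ψ := by
    haveI := Fintype.ofFinite E
    haveI := Fintype.ofFinite H1
    refine ((Fintype.bijective_iff_injective_and_card ψ).2 ⟨hψ, ?_⟩).2
    rw [← Nat.card_eq_fintype_card, ← Nat.card_eq_fintype_card]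
    exact le_antisymm (Nat.card_le_card_of_injective ψ hψ) hle
  have horder : ∀ y ∈ H, y ≠ 1 → orderOf y = orderOf h₀ := by
    intro y hy hy1
    obtain ⟨t, ht⟩ := hsurj ⟨⟨y, hy⟩, fun e' => hy1 (congrArg Subtype.val e')⟩
    rw [show y = (t : G) * h₀ * (t : G)⁻¹ from (congrArg (fun z : H1 => ((z.1 : H) : G)) ht).symm]
    exact MulEquiv.orderOf_eq (MulAut.conj (t : G)) h₀
  have hp2 : ∀ r : ℕ, r.Prime → r ∣ a → r = q := by
    intro r hr hra
    haveI := Fact.mk hr
    obtain ⟨⟨y, hy⟩, hyo⟩ := exists_prime_orderOf_dvd_card' (G := H) r (hHa ▸ hra)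
    obtain ⟨⟨y', hy'⟩, hyo'⟩ := exists_prime_orderOf_dvd_card' (G := H) q (hHa ▸ hqa)
    rw [Subgroup.orderOf_mk] at hyo hyo'
    have h1 : y ≠ 1 := fun e' => by rw [e', orderOf_one] at hyo; exact hr.ne_one hyo.symm
    have h1' : y' ≠ 1 := fun e' => by
      rw [e', orderOf_one] at hyo'; exact (Fact.out : q.Prime).ne_one hyo'.symm
    rw [← hyo, ← hyo', horder y hy h1, horder y' hy' h1']
  refine cidx_not_primePow h.na hu1 (Fact.out : q.Prime) (k := a.primeFactorsList.length) ?_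
  rw [hu]
  exact Nat.eq_prime_pow_of_unique_prime_dvd (hu ▸ Subgroup.index_ne_zero_of_finite)
    fun {r} hr hra => hp2 r hr hra

end Cfsg.Agent.Lie.RankThree
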