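import Cfsg.Agent.Lib.Lie.RankThree.Basic
import Cfsg.Agent.Lib.Small.SL2.Classes
import Mathlib.LinearAlgebra.Matrix.ProjectiveSpecialLinearGroup
import Mathlib.FieldTheory.Finite.Basic

/-!
# Centralizer orders in `SL₂(2ᵐ)`
-/

set_option autoImplicit false
set_option linter.unusedSectionVars false
set_option linter.style.haveILetI false

open Cfsg

namespace Cfsg.Agent.Lie.RankThree

variable {F : Type} [Field F] [Fintype F] [CharP F 2]

/-- Solutions of `a² + tab + b² = 1`. -/
abbrev Conic (t : F) : Type := {p : F × F // p.1 ^ 2 + t * p.1 * p.2 + p.2 ^ 2 = 1}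

theorem two_eq_zero : (2 : F) = 0 := CharTwo.two_eq_zero

theorem sq_inj {x y : F} (h : x ^ 2 = y ^ 2) : x = y := by
  have : (x - y) ^ 2 = 0 := by linear_combination h - (x * y - y ^ 2) * two_eq_zero (F := F)
  exact sub_eq_zero.1 (pow_eq_zero_iff two_ne_zero |>.1 this)

theorem sq_surj (x : F) : ∃ y : F, y ^ 2 = x :=
  (Finite.injective_iff_surjective (f := fun y : F => y ^ 2)).1 (fun _ _ h => sq_inj h) x

theorem eq_one_of_scalar {g : Matrix.SpecialLinearGroup (Fin 2) F}
    (h1 : g.1 0 1 = 0) (h2 : g.1 1 0 = 0) (h3 : g.1 0 0 = g.1 1 1) : g = 1 := by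
  have hd := g.2
  rw [Matrix.det_fin_two, h1, h2, mul_zero, sub_zero, ← h3] at hd
  have e : g.1 0 0 = 1 := sq_inj (by rw [one_pow, sq]; exact hd)
  refine Subtype.ext ?_
  ext i j
  fin_cases i <;> fin_cases j <;> simp [h1, h2, e, ← h3]

/-- A matrix of determinant one as an element of `SL₂`. -/
def mkSL (M : Matrix (Fin 2) (Fin 2) F) (h : M.det = 1) : Matrix.SpecialLinearGroup (Fin 2) F := ⟨M, h⟩

/-- The element `a + b g`. -/
def lin (g : Matrix.SpecialLinearGroup (Fin 2) F) (a b : F) : Matrix (Fin 2) (Fin 2) F :=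
  !![a + b * g.1 0 0, b * g.1 0 1; b * g.1 1 0, a + b * g.1 1 1]

theorem det_lin (g : Matrix.SpecialLinearGroup (Fin 2) F) (a b : F) :
    (lin g a b).det = a ^ 2 + (g.1 0 0 + g.1 1 1) * a * b + b ^ 2 := by
  have hd := g.2
  rw [Matrix.det_fin_two] at hd
  rw [lin, Matrix.det_fin_two_of]
  linear_combination b ^ 2 * hd

theorem card_centralizer {g : Matrix.SpecialLinearGroup (Fin 2) F} (hg : g ≠ 1) :
    ccard g = Nat.card (Conic (g.1 0 0 + g.1 1 1)) := by
  classical
  set t := g.1 0 0 + g.1 1 1 with ht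
  have hmem : ∀ p : Conic t, mkSL (lin g p.1.1 p.1.2) ((det_lin g _ _).trans p.2) ∈ Subgroup.centralizer ({g} : Set (Matrix.SpecialLinearGroup (Fin 2) F)) := by
    intro p
    refine mem_cent.2 (Subtype.ext ?_)
    show lin g _ _ * g.1 = g.1 * lin g _ _
    ext i j
    fin_cases i <;> fin_cases j <;>
      (simp [lin, Matrix.mul_apply, Fin.sum_univ_two]; ring)
  refine (Nat.card_congr (Equiv.ofBijective (fun p : Conic t => (⟨_, hmem p⟩ :
    Subgroup.centralizer ({g} : Set (Matrix.SpecialLinearGroup (Fin 2) F)))) ⟨?_, ?_⟩)).symm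
  · intro p p' h
    have h' : lin g p.1.1 p.1.2 = lin g p'.1.1 p'.1.2 := congrArg (fun z => (z.1).1) h
    have e00 := congrFun (congrFun h' 0) 0
    have e01 := congrFun (congrFun h' 0) 1
    have e10 := congrFun (congrFun h' 1) 0
    have e11 := congrFun (congrFun h' 1) 1
    simp [lin] at e00 e01 e10 e11
    have hb : p.1.2 = p'.1.2 := by
      by_contra hb
      refine hg (eq_one_of_scalar ?_ ?_ ?_)
      · rcases e01 with h0 | h0
        · exact absurd h0 hb
        · exact h0
      · rcases e10 with h0 | h0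
        · exact absurd h0 hb
        · exact h0
      · exact mul_left_cancel₀ (sub_ne_zero.2 hb) (by linear_combination e00 - e11)
    refine Subtype.ext (Prod.ext ?_ hb)
    rw [hb] at e00
    exact add_right_cancel e00
  · rintro ⟨y, hy⟩
    have hc : y.1 * g.1 = g.1 * y.1 := congrArg Subtype.val (mem_cent.1 hy).eq
    have f00 := congrFun (congrFun hc 0) 0
    have f01 := congrFun (congrFun hc 0) 1
    have f10 := congrFun (congrFun hc 1) 0
    simp only [Matrix.mul_apply, Fin.sum_univ_two] at f00 f01 f10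
    obtain ⟨b, h01, h10, hdd⟩ : ∃ b : F, y.1 0 1 = b * g.1 0 1 ∧ y.1 1 0 = b * g.1 1 0 ∧
        y.1 0 0 - y.1 1 1 = b * (g.1 0 0 - g.1 1 1) := by
      by_cases h : g.1 0 1 = 0
      · by_cases h' : g.1 1 0 = 0
        · have hne : g.1 0 0 - g.1 1 1 ≠ 0 := fun e => hg (eq_one_of_scalar h h' (sub_eq_zero.1 e))
          refine ⟨(y.1 0 0 - y.1 1 1) / (g.1 0 0 - g.1 1 1), ?_, ?_, by field_simp⟩
          · rw [h, mul_zero]
            refine (mul_eq_zero.1 (show y.1 0 1 * (g.1 0 0 - g.1 1 1) = 0 from ?_)).resolve_right hne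
            rw [h] at f01
            linear_combination -f01
          · rw [h', mul_zero]
            refine (mul_eq_zero.1 (show y.1 1 0 * (g.1 0 0 - g.1 1 1) = 0 from ?_)).resolve_right hne
            rw [h'] at f10
            linear_combination f10
        · refine ⟨y.1 1 0 / g.1 1 0, ?_, by field_simp, ?_⟩
          · field_simp
            linear_combination f00
          · field_simp
            linear_combination -f10
      · refine ⟨y.1 0 1 / g.1 0 1, by field_simp, ?_, ?_⟩
        · field_simp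
          linear_combination -f00
        · field_simp
          linear_combination f01
    have hval : lin g (y.1 0 0 - b * g.1 0 0) b = y.1 := by
      ext i j
      fin_cases i <;> fin_cases j <;> simp [lin]
      · exact h01.symm
      · exact h10.symm
      · linear_combination hdd
    have hp : (y.1 0 0 - b * g.1 0 0) ^ 2 + t * (y.1 0 0 - b * g.1 0 0) * b + b ^ 2 = 1 := by
      rw [ht, ← det_lin, hval]; exact y.2
    exact ⟨⟨(_, b), hp⟩, Subtype.ext (Subtype.ext hval)⟩

theorem card_conic_zero : Nat.card (Conic (0 : F)) = Fintype.card F := by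
  rw [← Nat.card_eq_fintype_card (α := F)]
  refine Nat.card_congr
    { toFun := fun p => p.1.1
      invFun := fun a => ⟨(a, a + 1), by linear_combination (a ^ 2 + a) * two_eq_zero (F := F)⟩
      left_inv := fun p => ?_
      right_inv := fun a => rfl }
  obtain ⟨⟨a, b⟩, h⟩ := p
  refine Subtype.ext (Prod.ext rfl ?_)
  have : (a + b) ^ 2 = 1 ^ 2 := by linear_combination h + a * b * two_eq_zero (F := F)
  have hab : a + b = 1 := sq_inj this
  show a + 1 = b
  linear_combination -hab + a * two_eq_zero (F := F)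

theorem card_conic_split {t r : F} (ht : t ≠ 0) (hr : r ^ 2 + t * r + 1 = 0) :
    Nat.card (Conic t) = Fintype.card F - 1 := by
  classical
  have hr0 : r ≠ 0 := by intro e; subst e; simp at hr
  have htr : t = r + r⁻¹ := by
    field_simp
    linear_combination hr - (r ^ 2 + 1) * two_eq_zero (F := F)
  have hne : r - r⁻¹ ≠ 0 := by
    intro e
    apply ht
    rw [htr, ← sub_eq_zero.1 e, ← two_mul, two_eq_zero, zero_mul]
  have hri : r * r⁻¹ = 1 := mul_inv_cancel₀ hr0
  have key : ∀ p : F × F, (p.1 + p.2 * r) * (p.1 + p.2 * r⁻¹) =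
      p.1 ^ 2 + t * p.1 * p.2 + p.2 ^ 2 := fun p => by
    rw [htr]; linear_combination p.2 ^ 2 * hri
  rw [← Fintype.card_units, ← Nat.card_eq_fintype_card]
  refine Nat.card_congr (Equiv.ofBijective
    (fun p : Conic t => Units.mk0 (p.1.1 + p.1.2 * r) (fun e => by
      have := key p.1; rw [p.2, e, zero_mul] at this; exact zero_ne_one this)) ⟨?_, ?_⟩)
  · intro p p' h
    have e1 : p.1.1 + p.1.2 * r = p'.1.1 + p'.1.2 * r := congrArg Units.val h
    have k := key p.1
    have k' := key p'.1
    rw [p.2] at k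
    rw [p'.2] at k'
    have hne0 : p.1.1 + p.1.2 * r ≠ 0 := fun e => by rw [e, zero_mul] at k; exact zero_ne_one k
    have e2 : p.1.1 + p.1.2 * r⁻¹ = p'.1.1 + p'.1.2 * r⁻¹ :=
      mul_left_cancel₀ hne0 (k.trans (e1 ▸ k'.symm))
    have hb : p.1.2 = p'.1.2 := mul_right_cancel₀ hne (by linear_combination e1 - e2)
    refine Subtype.ext (Prod.ext ?_ hb)
    rw [hb] at e1
    exact add_right_cancel e1
  · intro x
    set b := ((x : F) - (x : F)⁻¹) / (r - r⁻¹) with hb
    have h1 : ((x : F) - b * r + b * r) = (x : F) := by ring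
    have h2 : (x : F) - b * r + b * r⁻¹ = (x : F)⁻¹ := by
      have : b * (r - r⁻¹) = (x : F) - (x : F)⁻¹ := by rw [hb]; exact div_mul_cancel₀ _ hne
      linear_combination -this
    refine ⟨⟨((x : F) - b * r, b), ?_⟩, Units.ext h1⟩
    rw [← key]
    simp only
    rw [h1, h2, mul_inv_cancel₀ x.ne_zero]

theorem card_conic_inert {t : F} (h : ∀ r : F, r ^ 2 + t * r + 1 ≠ 0) :
    Nat.card (Conic t) = Fintype.card F + 1 := by
  classical
  have haniso : ∀ v : F × F, v ≠ 0 → v.1 ^ 2 + t * v.1 * v.2 + v.2 ^ 2 ≠ 0 := by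
    rintro ⟨a, b⟩ hv e
    simp only at e
    by_cases hb : b = 0
    · subst hb
      have : a = 0 := sq_inj (by simpa using e)
      exact hv (by rw [this]; rfl)
    · refine h (a / b) ?_
      field_simp
      linear_combination e
  have hcard : Nat.card (Conic t × Fˣ) = Nat.card {v : F × F // v ≠ 0} := by
    refine Nat.card_congr (Equiv.ofBijective (fun p => (⟨((p.2 : F) * p.1.1.1, (p.2 : F) * p.1.1.2), ?_⟩ :
      {v : F × F // v ≠ 0})) ⟨?_, ?_⟩)
    · intro e
      have e1 := congrArg Prod.fst e
      have e2 := congrArg Prod.snd e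
      simp at e1 e2
      have := p.1.2
      rw [e1, e2] at this
      simp at this
    · rintro ⟨⟨⟨a, b⟩, hp⟩, l⟩ ⟨⟨⟨a', b'⟩, hp'⟩, l'⟩ he
      simp only [Subtype.mk.injEq, Prod.mk.injEq] at he
      simp only at hp hp'
      have hl : (l : F) = l' := sq_inj (by
        linear_combination (- (l : F) ^ 2) * hp + (l' : F) ^ 2 * hp' +
          ((l : F) * a + (l' : F) * a' + t * ((l : F) * b)) * he.1 +
          ((l : F) * b + (l' : F) * b' + t * ((l' : F) * a')) * he.2)
      obtain rfl : l = l' := Units.ext hl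
      obtain ⟨ea, eb⟩ := he
      obtain rfl : a = a' := mul_left_cancel₀ l.ne_zero ea
      obtain rfl : b = b' := mul_left_cancel₀ l.ne_zero eb
      rfl
    · rintro ⟨v, hv⟩
      obtain ⟨s, hs⟩ := sq_surj (v.1 ^ 2 + t * v.1 * v.2 + v.2 ^ 2)
      have hs0 : s ≠ 0 := fun e => haniso v hv (by rw [← hs, e]; ring)
      refine ⟨(⟨(v.1 / s, v.2 / s), ?_⟩, Units.mk0 s hs0), Subtype.ext (Prod.ext ?_ ?_)⟩
      · field_simp
        linear_combination -hs
      · simp only [Units.val_mk0]; field_simp
      · simp only [Units.val_mk0]; field_simp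
  have h1 : Nat.card {v : F × F // v ≠ 0} + 1 = Fintype.card F * Fintype.card F := by
    rw [← Finite.card_option, Nat.card_congr (Equiv.optionSubtypeNe (0 : F × F)), Nat.card_prod,
      Nat.card_eq_fintype_card]
  rw [Nat.card_prod, Nat.card_eq_fintype_card (α := Fˣ), Fintype.card_units] at hcard
  have hq : 1 < Fintype.card F := Fintype.one_lt_card
  apply Nat.eq_of_mul_eq_mul_right (show 0 < Fintype.card F - 1 by omega)
  rw [hcard]
  obtain ⟨k, hk⟩ : ∃ k, Fintype.card F = k + 1 := ⟨Fintype.card F - 1, by omega⟩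
  rw [hk] at h1 ⊢
  simp only [Nat.add_sub_cancel]
  nlinarith [h1]

/-- The centralizer orders of nontrivial elements. -/
theorem ccard_sl_two (hq : 4 ≤ Fintype.card F) :
    {n : ℕ | ∃ g : Matrix.SpecialLinearGroup (Fin 2) F, g ≠ 1 ∧ ccard g = n} =
      {Fintype.card F, Fintype.card F - 1, Fintype.card F + 1} := by
  classical
  ext n
  simp only [Set.mem_setOf_eq, Set.mem_insert_iff, Set.mem_singleton_iff]
  constructor
  · rintro ⟨g, hg, rfl⟩
    rw [card_centralizer hg]
    by_cases ht : g.1 0 0 + g.1 1 1 = 0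
    · rw [ht]; exact Or.inl card_conic_zero
    · by_cases hr : ∃ r : F, r ^ 2 + (g.1 0 0 + g.1 1 1) * r + 1 = 0
      · obtain ⟨r, hr⟩ := hr
        exact Or.inr (Or.inl (card_conic_split ht hr))
      · push Not at hr
        exact Or.inr (Or.inr (card_conic_inert hr))
  · have mk : ∀ t : F, ∃ g : Matrix.SpecialLinearGroup (Fin 2) F, g ≠ 1 ∧
        ccard g = Nat.card (Conic t) := by
      intro t
      have hdet : (!![t, 1; 1, 0] : Matrix (Fin 2) (Fin 2) F).det = 1 := by
        rw [Matrix.det_fin_two_of]; linear_combination - two_eq_zero (F := F)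
      have hne : mkSL _ hdet ≠ 1 := fun e => by
        have := congrArg (fun m : Matrix.SpecialLinearGroup (Fin 2) F => m.1 0 1) e
        simp [mkSL] at this
      refine ⟨mkSL _ hdet, hne, ?_⟩
      rw [card_centralizer hne]
      simp [mkSL]
    rintro (rfl | rfl | rfl)
    · obtain ⟨g, hg, hg'⟩ := mk 0
      exact ⟨g, hg, hg'.trans card_conic_zero⟩
    · obtain ⟨r, hr⟩ : ∃ r : F, r ∉ ({0, 1} : Finset F) := by
        by_contra hno
        push Not at hno
        have : Fintype.card F ≤ ({0, 1} : Finset F).card :=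
          Finset.card_le_card (s := Finset.univ) fun x _ => hno x
        have h2 : ({0, 1} : Finset F).card ≤ 2 := Finset.card_le_two
        omega
      simp only [Finset.mem_insert, Finset.mem_singleton, not_or] at hr
      obtain ⟨g, hg, hg'⟩ := mk (r + r⁻¹)
      refine ⟨g, hg, hg'.trans (card_conic_split (r := r) ?_ ?_)⟩
      · intro e
        refine hr.2 (sq_inj ?_)
        field_simp [hr.1] at e
        linear_combination e - two_eq_zero (F := F)
      · field_simp [hr.1]
        linear_combination (r ^ 2 + 1) * two_eq_zero (F := F)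
    · obtain ⟨t, ht⟩ : ∃ t : F, ∀ r : F, r ^ 2 + t * r + 1 ≠ 0 := by
        by_contra hno
        push Not at hno
        choose root hroot using fun t : {t : F // t ≠ 0} => hno t
        have hne : ∀ t : {t : F // t ≠ 0}, root t ∉ ({0, 1} : Finset F) := by
          intro t
          simp only [Finset.mem_insert, Finset.mem_singleton, not_or]
          refine ⟨fun e => ?_, fun e => t.2 ?_⟩
          · have := hroot t; rw [e] at this; simp at this
          · have := hroot t; rw [e] at this
            linear_combination this - two_eq_zero (F := F)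
        let f : {t : F // t ≠ 0} → {r : F // r ∈ (Finset.univ \ ({0, 1} : Finset F))} :=
          fun t => ⟨root t, by simpa using hne t⟩
        have hinj : Function.Injective f := by
          intro t t' e
          have e' : root t = root t' := congrArg Subtype.val e
          have h0 : root t ≠ 0 := fun h0 => by
            have := hne t; rw [h0] at this; simp at this
          refine Subtype.ext (mul_right_cancel₀ h0 ?_)
          have h' := hroot t'
          rw [← e'] at h'
          linear_combination hroot t - h'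
        have hle := Fintype.card_le_of_injective f hinj
        rw [Fintype.card_coe, Finset.card_sdiff_of_subset (Finset.subset_univ _), Finset.card_pair zero_ne_one,
          Finset.card_univ, Fintype.card_subtype_compl, Fintype.card_subtype_eq] at hle
        omega
      obtain ⟨g, hg, hg'⟩ := mk t
      exact ⟨g, hg, hg'.trans (card_conic_inert ht)⟩

theorem center_sl_two_eq_bot : Subgroup.center (Matrix.SpecialLinearGroup (Fin 2) F) = ⊥ := by
  refine (Subgroup.eq_bot_iff_forall _).2 fun x hx => ?_
  obtain ⟨r, hr, hrx⟩ := Matrix.SpecialLinearGroup.mem_center_iff.1 hx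
  rw [Fintype.card_fin] at hr
  obtain rfl : r = 1 := sq_inj (by rw [one_pow]; exact hr)
  exact Subtype.ext (by rw [← hrx]; simp)

theorem ccard_equiv {G H : Type*} [Group G] [Group H] (e : G ≃* H) (x : G) : ccard (e x) = ccard x := by
  refine Nat.card_congr ((e.symm.toEquiv).subtypeEquiv fun y => ?_)
  rw [mem_cent, mem_cent]
  constructor
  · intro h
    have := h.map e.symm
    rwa [MulEquiv.symm_apply_apply] at this
  · intro h
    have := h.map e
    simpa using this

/-- `SL₂(2ᵐ)` has exactly three centralizer indices. -/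
theorem ncard_cidx {G : Type*} [Group G] [Finite G] (hq : 4 ≤ Fintype.card F)
    (e : G ≃* Matrix.ProjectiveSpecialLinearGroup (Fin 2) F) :
    IsSimpleGroup G ∧ ¬ IsMulCommutative G ∧
      Set.ncard {m : ℕ | ∃ x : G, x ∉ Subgroup.center G ∧ m = (Subgroup.centralizer ({x} : Set G)).index} = 3 := by
  classical
  haveI : IsSimpleGroup (Matrix.ProjectiveSpecialLinearGroup (Fin 2) F) :=
    Matrix.ProjectiveSpecialLinearGroup.rank_two_simple (by rw [Nat.card_eq_fintype_card]; omega)
  haveI : Nontrivial G := e.toEquiv.nontrivial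
  haveI : IsSimpleGroup G := IsSimpleGroup.isSimpleGroup_of_surjective e.symm.toMonoidHom e.symm.surjective
  have hz := center_sl_two_eq_bot (F := F)
  let π : Matrix.SpecialLinearGroup (Fin 2) F ≃* Matrix.ProjectiveSpecialLinearGroup (Fin 2) F :=
    ((QuotientGroup.quotientMulEquivOfEq hz).trans QuotientGroup.quotientBot).symm
  let s : G ≃* Matrix.SpecialLinearGroup (Fin 2) F := e.trans π.symm
  have hna : ¬ IsMulCommutative G := by
    intro hc
    have : Subgroup.center (Matrix.SpecialLinearGroup (Fin 2) F) = ⊤ := by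
      refine eq_top_iff.2 fun x _ => Subgroup.mem_center_iff.2 fun y => ?_
      apply s.symm.injective
      rw [map_mul, map_mul]
      exact hc.is_comm.comm _ _
    rw [hz] at this
    have h1 : mkSL !![1, 1; 0, 1] (by simp [Matrix.det_fin_two_of] : (!![1, 1; 0, 1] :
        Matrix (Fin 2) (Fin 2) F).det = 1) ∈ (⊥ : Subgroup (Matrix.SpecialLinearGroup (Fin 2) F)) := this ▸ Subgroup.mem_top _
    rw [Subgroup.mem_bot] at h1
    have h2 := congrArg (fun m : Matrix.SpecialLinearGroup (Fin 2) F => m.1 0 1) h1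
    simp [mkSL] at h2
  refine ⟨inferInstance, hna, ?_⟩
  set S := {n : ℕ | ∃ g : Matrix.SpecialLinearGroup (Fin 2) F, g ≠ 1 ∧ ccard g = n} with hS
  have heq : {m : ℕ | ∃ x : G, x ∉ Subgroup.center G ∧ m = (Subgroup.centralizer ({x} : Set G)).index} =
      (fun n => Nat.card G / n) '' S := by
    have hmem : ∀ x : G, x ∉ Subgroup.center G ↔ x ≠ 1 := fun x => by
      rw [center_eq_bot hna, Subgroup.mem_bot]
    ext m
    simp only [Set.mem_image, hS, Set.mem_setOf_eq, hmem]
    have hval : ∀ x : G, (Subgroup.centralizer ({x} : Set G)).index = Nat.card G / ccard x := fun x => by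
      show cidx x = _
      rw [← ccard_mul_cidx x]
      exact (Nat.mul_div_cancel_left _ (Nat.card_pos : 0 < ccard x)).symm
    constructor
    · rintro ⟨x, hx, rfl⟩
      exact ⟨_, ⟨s x, (map_ne_one_iff s s.injective).2 hx, ccard_equiv s x⟩, (hval x).symm⟩
    · rintro ⟨_, ⟨g, hg, rfl⟩, rfl⟩
      refine ⟨s.symm g, (map_ne_one_iff s.symm s.symm.injective).2 hg, ?_⟩
      rw [hval, ccard_equiv s.symm g]
  rw [heq, Set.InjOn.ncard_image, hS, ccard_sl_two hq]
  · exact Set.ncard_eq_three.2 ⟨_, _, _, by omega, by omega, by omega, rfl⟩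
  · intro n hn n' hn' h
    have hdvd : ∀ k ∈ S, k ∣ Nat.card G := by
      rintro _ ⟨g, -, rfl⟩
      rw [← ccard_equiv s.symm g]
      exact Subgroup.card_subgroup_dvd_card _
    rw [← Nat.div_div_self (hdvd n hn) Nat.card_pos.ne', ← Nat.div_div_self (hdvd n' hn') Nat.card_pos.ne']
    exact congrArg (Nat.card G / ·) h

end Cfsg.Agent.Lie.RankThree
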